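import Groth.Agent.AnLib.Chart
import Mathlib.AlgebraicGeometry.Pullbacks

/-! ℂ-points of a fibre product. -/

open AlgebraicGeometry CategoryTheory CategoryTheory.Limits TopologicalSpace Topology

noncomputable section

namespace Groth.Agent.AnLib

open An

universe u

/-- The functions on a fibre product of affine schemes are generated by those of the factors. -/
theorem closure_range_appTop_eq_top {P U V W : Scheme.{u}} [IsAffine P] [IsAffine U] [IsAffine V] [IsAffine W]
    {p : P ⟶ U} {q : P ⟶ V} {f : U ⟶ W} {g : V ⟶ W} (h : IsPullback p q f g) :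
    Subring.closure (Set.range p.appTop ∪ Set.range q.appTop) = ⊤ := by
  set R := Subring.closure (Set.range p.appTop ∪ Set.range q.appTop)
  let a : Γ(U, ⊤) →+* R := p.appTop.hom.codRestrict R fun x => Subring.subset_closure (Or.inl ⟨x, rfl⟩)
  let b : Γ(V, ⊤) →+* R := q.appTop.hom.codRestrict R fun x => Subring.subset_closure (Or.inr ⟨x, rfl⟩)
  have hc : f.appTop ≫ CommRingCat.ofHom a = g.appTop ≫ CommRingCat.ofHom b := by
    ext x
    exact congrArg (fun φ : P ⟶ W => φ.appTop x) h.w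
  let l : Spec (CommRingCat.of R) ⟶ P := h.lift (Spec.map (CommRingCat.ofHom a) ≫ U.isoSpec.inv)
    (Spec.map (CommRingCat.ofHom b) ≫ V.isoSpec.inv) (by
      rw [Category.assoc, Category.assoc, ← Scheme.isoSpec_inv_naturality, ← Scheme.isoSpec_inv_naturality,
        ← Spec.map_comp_assoc, ← Spec.map_comp_assoc, hc])
  let i : P ⟶ Spec (CommRingCat.of R) := P.isoSpec.hom ≫ Spec.map (CommRingCat.ofHom R.subtype)
  have hil : i ≫ l = 𝟙 P := by
    apply h.hom_ext
    · simp only [i, l, Category.assoc, IsPullback.lift_fst, Category.id_comp]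
      rw [← Spec.map_comp_assoc, show CommRingCat.ofHom a ≫ CommRingCat.ofHom R.subtype = p.appTop from rfl,
        Scheme.isoSpec_hom_naturality_assoc, Iso.hom_inv_id, Category.comp_id]
    · simp only [i, l, Category.assoc, IsPullback.lift_snd, Category.id_comp]
      rw [← Spec.map_comp_assoc, show CommRingCat.ofHom b ≫ CommRingCat.ofHom R.subtype = q.appTop from rfl,
        Scheme.isoSpec_hom_naturality_assoc, Iso.hom_inv_id, Category.comp_id]
  refine eq_top_iff.2 fun x _ => ?_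
  have h1 : i.appTop = (Scheme.ΓSpecIso (CommRingCat.of R)).hom ≫ CommRingCat.ofHom R.subtype := by
    rw [Scheme.Hom.comp_appTop]
    show (Spec.map _).appTop ≫ P.toSpecΓ.appTop = _
    rw [Scheme.toSpecΓ_appTop]
    exact Scheme.ΓSpecIso_naturality _
  have h2 := congrArg (fun φ : P ⟶ P => φ.appTop x) hil
  simp only [Scheme.Hom.comp_appTop, Scheme.Hom.id_appTop, CommRingCat.comp_apply] at h2
  rw [h1] at h2
  refine (h2.trans rfl : _ = x) ▸ ?_
  rw [CommRingCat.comp_apply]
  exact SetLike.coe_mem _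

variable {X Y S : Scheme.{0}} [X.Over SC] [Y.Over SC] [S.Over SC] [LocallyOfFiniteType (X ↘ SC)]
  [LocallyOfFiniteType (Y ↘ SC)] {P : Scheme.{0}} [P.Over SC] {p : P ⟶ X} {q : P ⟶ Y} {f : X ⟶ S} {g : Y ⟶ S}
  [p.IsOver SC] [q.IsOver SC]

omit [S.Over SC] in
theorem isInducing_prod_of_isAffine [IsAffine X] [IsAffine Y] [IsAffine S] [IsAffine P] (h : IsPullback p q f g) :
    IsInducing fun z : Pts P => (Pts.map p z, Pts.map q z) := by
  obtain ⟨n, s, hs⟩ := exists_surjective_eval₂ (X := X)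
  obtain ⟨m, t, ht⟩ := exists_surjective_eval₂ (X := Y)
  let r : Fin (n + m) → Γ(P, ⊤) := Fin.append (fun i => p.appTop (s i)) fun j => q.appTop (t j)
  have hstr : ∀ (Z : Scheme.{0}) [Z.Over SC] (u : P ⟶ Z) [u.IsOver SC] (c : ℂ), u.appTop (strHom Z c) = strHom P c := by
    intro Z _ u _ c
    show ((Z ↘ SC).appTop ≫ u.appTop).hom _ = (P ↘ SC).appTop.hom _
    rw [← Scheme.Hom.comp_appTop, comp_over u SC]
  have hmem : ∀ (Z : Scheme.{0}) [Z.Over SC] (u : P ⟶ Z) [u.IsOver SC] (l : ℕ) (w : Fin l → Γ(Z, ⊤)) (e : Fin l → Fin (n + m)),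
      (∀ i, r (e i) = u.appTop (w i)) → ∀ F : MvPolynomial (Fin l) ℂ,
      u.appTop (MvPolynomial.eval₂Hom (strHom Z) w F) = MvPolynomial.eval₂Hom (strHom P) r (MvPolynomial.rename e F) := by
    intro Z _ u _ l w e he F
    exact congrArg (fun φ : MvPolynomial (Fin l) ℂ →+* Γ(P, ⊤) => φ F)
      (MvPolynomial.ringHom_ext (f := u.appTop.hom.comp (MvPolynomial.eval₂Hom (strHom Z) w))
        (g := (MvPolynomial.eval₂Hom (strHom P) r).comp (MvPolynomial.rename e).toRingHom)
        (fun c => by simpa using hstr Z u c) (fun i => by simpa using (he i).symm))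
  have hr : Function.Surjective (MvPolynomial.eval₂Hom (strHom P) r) := by
    rw [← RingHom.range_eq_top, eq_top_iff, ← closure_range_appTop_eq_top h, Subring.closure_le]
    rintro x (⟨a, rfl⟩ | ⟨b, rfl⟩)
    · obtain ⟨F, rfl⟩ := hs a
      exact ⟨_, (hmem X p n s (Fin.castAdd m) (fun i => Fin.append_left _ _ i) F).symm⟩
    · obtain ⟨F, rfl⟩ := ht b
      exact ⟨_, (hmem Y q m t (Fin.natAdd n) (fun i => Fin.append_right _ _ i) F).symm⟩
  let Φ : Pts X × Pts Y → (Fin (n + m) → ℂ) := fun z => Fin.append (coords s z.1) (coords t z.2)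
  have hΦ : Continuous Φ := by
    refine continuous_pi fun i => ?_
    induction i using Fin.addCases with
    | left i => simp only [Φ, Fin.append_left]; exact (continuous_apply i).comp ((continuous_coords s).comp continuous_fst)
    | right i => simp only [Φ, Fin.append_right]; exact (continuous_apply i).comp ((continuous_coords t).comp continuous_snd)
  refine IsInducing.of_comp ((Pts.continuous_map p).prodMk (Pts.continuous_map q)) hΦ ?_
  have e : (Φ ∘ fun z : Pts P => (Pts.map p z, Pts.map q z)) = coords r := by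
    funext z i
    induction i using Fin.addCases with
    | left i => simp [Φ, r, coords, evTop_map]
    | right i => simp [Φ, r, coords, evTop_map]
  rw [e]; exact (isClosedEmbedding_coords r hr).isInducing

theorem pt_mem_range_of_map_eq {U : X.Opens} {z : Pts X} {a : Pts U.toScheme} (h : Pts.map U.ι a = z) :
    z.pt ∈ U := by
  have h' : U.ι a.pt ∈ Set.range U.ι := ⟨_, rfl⟩
  rw [Scheme.Opens.range_ι] at h'
  rw [← h, Pts.pt_map]; exact h'

/-- The points of a fibre product carry the topology induced from the factors. -/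
theorem isInducing_prod {X Y S : Scheme.{0}} [X.Over SC] [Y.Over SC] [S.Over SC] [LocallyOfFiniteType (X ↘ SC)]
    [LocallyOfFiniteType (Y ↘ SC)] (f : X ⟶ S) (g : Y ⟶ S) [f.IsOver SC] [g.IsOver SC] :
    IsInducing fun z : Pts (pullback f g) => (Pts.map (pullback.fst f g) z, Pts.map (pullback.snd f g) z) := by
  refine ⟨le_antisymm ((Pts.continuous_map _).prodMk (Pts.continuous_map _)).le_induced fun O hO => ?_⟩
  rw [@isOpen_iff_forall_mem_open _ (TopologicalSpace.induced _ inferInstance)]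
  intro z hz
  obtain ⟨W, hW, hxW, -⟩ := exists_isAffineOpen_mem_and_subset
    (x := f (pullback.fst f g z.pt)) (U := (⊤ : S.Opens)) trivial
  have hyW : g (pullback.snd f g z.pt) ∈ W := by
    rw [← Scheme.Hom.comp_apply, ← pullback.condition, Scheme.Hom.comp_apply]; exact hxW
  obtain ⟨U, hU, hxU, hUW⟩ := exists_isAffineOpen_mem_and_subset (U := f ⁻¹ᵁ W) (show pullback.fst f g z.pt ∈ f ⁻¹ᵁ W from hxW)
  obtain ⟨V, hV, hyV, hVW⟩ := exists_isAffineOpen_mem_and_subset (U := g ⁻¹ᵁ W) (show pullback.snd f g z.pt ∈ g ⁻¹ᵁ W from hyW)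
  have : IsAffine W.toScheme := hW
  have : IsAffine U.toScheme := hU
  have : IsAffine V.toScheme := hV
  let f₀ := f.resLE W U hUW
  let g₀ := g.resLE W V hVW
  let j : pullback f₀ g₀ ⟶ pullback f g := pullback.map f₀ g₀ f g U.ι V.ι W.ι
    (Scheme.Hom.resLE_comp_ι f hUW) (Scheme.Hom.resLE_comp_ι g hVW)
  letI : (pullback f₀ g₀).Over SC := ⟨j ≫ (pullback f g ↘ SC)⟩
  have : j.IsOver SC := ⟨rfl⟩
  have hj1 : j ≫ pullback.fst f g = pullback.fst f₀ g₀ ≫ U.ι := pullback.lift_fst _ _ _
  have hj2 : j ≫ pullback.snd f g = pullback.snd f₀ g₀ ≫ V.ι := pullback.lift_snd _ _ _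
  have : (pullback.fst f₀ g₀).IsOver SC := ⟨by
    show pullback.fst f₀ g₀ ≫ U.ι ≫ (X ↘ SC) = j ≫ (pullback f g ↘ SC)
    rw [← reassoc_of% hj1, comp_over (pullback.fst f g) SC]⟩
  have : (pullback.snd f₀ g₀).IsOver SC := ⟨by
    show pullback.snd f₀ g₀ ≫ V.ι ≫ (Y ↘ SC) = j ≫ (pullback f g ↘ SC)
    rw [← reassoc_of% hj2, comp_over (pullback.snd f g) SC]⟩
  have : LocallyOfFiniteType (U.toScheme ↘ SC) := inferInstanceAs (LocallyOfFiniteType (U.ι ≫ (X ↘ SC)))
  have : LocallyOfFiniteType (V.toScheme ↘ SC) := inferInstanceAs (LocallyOfFiniteType (V.ι ≫ (Y ↘ SC)))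
  have hQ := isInducing_prod_of_isAffine (IsPullback.of_hasPullback f₀ g₀)
  have hrange : ∀ w : ↥(pullback f g), pullback.fst f g w ∈ U → pullback.snd f g w ∈ V → w ∈ Set.range j := by
    intro w h1 h2
    rw [Scheme.Pullback.range_map]
    exact ⟨by simpa using h1, by simpa using h2⟩
  have hjo := isOpenEmbedding_map j
  obtain ⟨w, rfl⟩ := exists_map_eq_of_isOpenImmersion j z (hrange _ hxU hyV)
  obtain ⟨O', hO', hO'eq⟩ := hQ.isOpen_iff.1 (hO.preimage hjo.continuous)
  have hUV := (isOpenEmbedding_map U.ι).prodMap (isOpenEmbedding_map V.ι)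
  refine ⟨_, ?_, isOpen_induced_iff.2 ⟨Prod.map (Pts.map U.ι) (Pts.map V.ι) '' O', hUV.isOpenMap _ hO', rfl⟩, ?_⟩
  · rintro z' ⟨⟨a, b⟩, hab, he⟩
    obtain ⟨ha, hb⟩ := Prod.ext_iff.1 he
    have h1 : pullback.fst f g z'.pt ∈ U := by rw [← Pts.pt_map]; exact pt_mem_range_of_map_eq ha
    have h2 : pullback.snd f g z'.pt ∈ V := by rw [← Pts.pt_map]; exact pt_mem_range_of_map_eq hb
    obtain ⟨w', rfl⟩ := exists_map_eq_of_isOpenImmersion j z' (hrange _ h1 h2)
    have ea : Pts.map (pullback.fst f₀ g₀) w' = a := map_injective U.ι (by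
      refine Eq.trans ?_ ha.symm
      exact Subtype.ext (by simp [hj1]))
    have eb : Pts.map (pullback.snd f₀ g₀) w' = b := map_injective V.ι (by
      refine Eq.trans ?_ hb.symm
      exact Subtype.ext (by simp [hj2]))
    show w' ∈ Pts.map j ⁻¹' O
    rw [← hO'eq]
    show (_, _) ∈ O'
    rw [ea, eb]; exact hab
  · refine ⟨(Pts.map (pullback.fst f₀ g₀) w, Pts.map (pullback.snd f₀ g₀) w), ?_, ?_⟩
    · have : w ∈ Pts.map j ⁻¹' O := hz
      rw [← hO'eq] at this
      exact this
    · exact Prod.ext (Subtype.ext (by simp [hj1])) (Subtype.ext (by simp [hj2]))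

end Groth.Agent.AnLib
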