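import Groth.Prelude.Def_AnPts
import Mathlib.AlgebraicGeometry.AlgClosed.Basic
import Mathlib.Analysis.Complex.Polynomial.Basic

/-! The ℂ-points of a scheme locally of finite type over ℂ: closed points, evaluation. -/

open AlgebraicGeometry CategoryTheory TopologicalSpace Opposite

noncomputable section

namespace Groth.Agent.AnLib

open An

variable {X Y : Scheme.{0}} [X.Over SC] [Y.Over SC]

section LFT
variable [LocallyOfFiniteType (X ↘ SC)]

theorem pt_injective : Function.Injective (Pts.pt : Pts X → X) := fun x y h =>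
  Subtype.ext (ext_of_apply_closedPoint_eq (X ↘ SC) x.2 y.2
    (by rw [eq_cpt (IsLocalRing.closedPoint _)]; exact h))

theorem isClosed_pt (x : Pts X) : IsClosed ({x.pt} : Set X) := by
  have h : IsClosed ({x.1 (IsLocalRing.closedPoint ℂ)} : Set X) := (pointEquivClosedPoint (X ↘ SC) x).2
  rwa [eq_cpt (IsLocalRing.closedPoint _)] at h

theorem exists_pt_eq {z : X} (hz : IsClosed ({z} : Set X)) : ∃ x : Pts X, x.pt = z :=
  ⟨⟨pointOfClosedPoint (X ↘ SC) z hz, pointOfClosedPoint_comp _ z hz⟩, pointOfClosedPoint_apply _ z hz _⟩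

theorem range_pt : Set.range (Pts.pt : Pts X → X) = closedPoints X :=
  Set.ext fun _ => ⟨by rintro ⟨x, rfl⟩; exact isClosed_pt x, fun h => exists_pt_eq h⟩

theorem exists_pt_mem {Z : Set X} (hZ : IsLocallyClosed Z) (hne : Z.Nonempty) : ∃ x : Pts X, x.pt ∈ Z := by
  have : JacobsonSpace X := LocallyOfFiniteType.jacobsonSpace (X ↘ SC)
  obtain ⟨z, hzZ, hz⟩ := nonempty_inter_closedPoints hne hZ
  obtain ⟨x, rfl⟩ := exists_pt_eq hz
  exact ⟨x, hzZ⟩

end LFT

/-- Evaluation at a point as a ring homomorphism. -/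
def evalHom (x : Pts X) (U : X.Opens) (h : x.pt ∈ U) : Γ(X, U) →+* ℂ :=
  (Scheme.ΓSpecIso (CommRingCat.of ℂ)).hom.hom.comp (x.1.appLE U ⊤ (x.top_le_preimage h)).hom

theorem ev_eq (x : Pts X) (U : X.Opens) (h : x.pt ∈ U) (f : Γ(X, U)) : x.ev U h f = evalHom x U h f := rfl

theorem ev_res (x : Pts X) {U V : X.Opens} (i : U ≤ V) (h : x.pt ∈ U) (f : Γ(X, V)) :
    x.ev U h (X.presheaf.map (homOfLE i).op f) = x.ev V (i h) f := by
  unfold Pts.ev
  rw [← CommRingCat.comp_apply (X.presheaf.map _), Scheme.Hom.map_appLE]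

theorem ev_ne_zero_iff (x : Pts X) (U : X.Opens) (h : x.pt ∈ U) (f : Γ(X, U)) :
    x.ev U h f ≠ 0 ↔ x.pt ∈ X.basicOpen f := by
  have key : x.pt ∈ X.basicOpen f ↔ cpt ∈ SC.basicOpen (x.1.appLE U ⊤ (x.top_le_preimage h) f) := by
    have : SC.basicOpen (x.1.appLE U ⊤ (x.top_le_preimage h) f) = ⊤ ⊓ x.1 ⁻¹ᵁ X.basicOpen f := by
      rw [Scheme.preimage_basicOpen, Scheme.Hom.appLE, CommRingCat.comp_apply, Scheme.basicOpen_res]
    rw [this]
    exact ⟨fun hx => ⟨trivial, hx⟩, fun hx => hx.2⟩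
  rw [key, Pts.ev]
  refine ⟨fun hne => ?_, fun hmem heq => ?_⟩
  · rw [Scheme.basicOpen_of_isUnit]
    · trivial
    · have := (isUnit_iff_ne_zero.2 hne).map (Scheme.ΓSpecIso (CommRingCat.of ℂ)).inv.hom
      rw [← CommRingCat.comp_apply, Iso.hom_inv_id] at this
      exact this
  · have h0 : x.1.appLE U ⊤ (x.top_le_preimage h) f = 0 := by
      have := congrArg (Scheme.ΓSpecIso (CommRingCat.of ℂ)).inv heq
      rwa [← CommRingCat.comp_apply, Iso.hom_inv_id, map_zero] at this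
    rw [h0, Scheme.basicOpen_zero] at hmem
    exact hmem

theorem evTop_strHom (x : Pts X) (c : ℂ) : x.evTop (strHom X c) = c := by
  have h : (X ↘ SC).appTop ≫ x.1.appTop = 𝟙 _ := by rw [← Scheme.Hom.comp_appTop, x.2, Scheme.Hom.id_appTop]
  have h2 : x.1.appLE ⊤ ⊤ (x.top_le_preimage (Opens.mem_top _)) = x.1.appTop := (Scheme.Hom.app_eq_appLE _).symm
  show (Scheme.ΓSpecIso (CommRingCat.of ℂ)).hom (x.1.appLE ⊤ ⊤ _ ((X ↘ SC).appTop ((Scheme.ΓSpecIso (CommRingCat.of ℂ)).inv c))) = c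
  rw [h2, ← CommRingCat.comp_apply (X ↘ SC).appTop, h]
  show (Scheme.ΓSpecIso (CommRingCat.of ℂ)).hom ((Scheme.ΓSpecIso (CommRingCat.of ℂ)).inv c) = c
  rw [← CommRingCat.comp_apply, Iso.inv_hom_id]; rfl

theorem evTop_map (g : X ⟶ Y) [g.IsOver SC] (x : Pts X) (f : Γ(Y, ⊤)) :
    (Pts.map g x).evTop f = x.evTop (g.appTop f) :=
  Pts.ev_map g x ⊤ _ f

theorem ext_of_evTop [IsAffine X] {x y : Pts X} (h : ∀ f, x.evTop f = y.evTop f) : x = y := by
  apply Subtype.ext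
  apply ext_of_isAffine
  ext f
  have hx : x.1.appLE ⊤ ⊤ (x.top_le_preimage (Opens.mem_top _)) = x.1.appTop := (Scheme.Hom.app_eq_appLE _).symm
  have hy : y.1.appLE ⊤ ⊤ (y.top_le_preimage (Opens.mem_top _)) = y.1.appTop := (Scheme.Hom.app_eq_appLE _).symm
  have := h f
  simp only [Pts.evTop, Pts.ev, hx, hy] at this
  exact (Scheme.ΓSpecIso (CommRingCat.of ℂ)).commRingCatIsoToRingEquiv.injective this

/-- A point of an affine scheme from a character of its ring of functions. -/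
theorem exists_evTop_eq [IsAffine X] (φ : Γ(X, ⊤) →+* ℂ) (hφ : ∀ c, φ (strHom X c) = c) :
    ∃ x : Pts X, ∀ f, x.evTop f = φ f := by
  let p : SC ⟶ X := Spec.map (CommRingCat.ofHom φ) ≫ X.isoSpec.inv
  have happ : p.appTop = CommRingCat.ofHom φ ≫ (Scheme.ΓSpecIso (CommRingCat.of ℂ)).inv := by
    have hinv : X.isoSpec.inv.appTop = (Scheme.ΓSpecIso Γ(X, ⊤)).inv := by
      rw [← cancel_mono (Scheme.ΓSpecIso Γ(X, ⊤)).hom, Iso.inv_hom_id, ← Scheme.toSpecΓ_appTop X]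
      show X.isoSpec.inv.appTop ≫ X.isoSpec.hom.appTop = _
      rw [← Scheme.Hom.comp_appTop, Iso.hom_inv_id, Scheme.Hom.id_appTop]
    rw [Scheme.Hom.comp_appTop, hinv, Scheme.ΓSpecIso_inv_naturality]
    rfl
  have hp : p ≫ (X ↘ SC) = 𝟙 SC := by
    apply ext_of_isAffine
    rw [Scheme.Hom.comp_appTop, Scheme.Hom.id_appTop, happ]
    ext a
    obtain ⟨c, rfl⟩ : ∃ c, (Scheme.ΓSpecIso (CommRingCat.of ℂ)).inv c = a :=
      (Scheme.ΓSpecIso (CommRingCat.of ℂ)).symm.commRingCatIsoToRingEquiv.surjective a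
    exact congrArg (Scheme.ΓSpecIso (CommRingCat.of ℂ)).inv (hφ c)
  refine ⟨⟨p, hp⟩, fun f => ?_⟩
  show (Scheme.ΓSpecIso (CommRingCat.of ℂ)).hom (p.appLE ⊤ ⊤ _ f) = φ f
  rw [show p.appLE ⊤ ⊤ _ = p.appTop from (Scheme.Hom.app_eq_appLE _).symm, happ, CommRingCat.comp_apply,
    ← CommRingCat.comp_apply (Scheme.ΓSpecIso _).inv, Iso.inv_hom_id]
  rfl

end Groth.Agent.AnLib
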