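import Groth.Agent.DimLib.Algebra
import Mathlib.FieldTheory.Minpoly.IsIntegrallyClosed
import Mathlib.Analysis.Complex.Polynomial.Basic
import Mathlib.Analysis.Normed.Group.Basic
import Mathlib.Topology.MetricSpace.Sequences
import Mathlib.Topology.Algebra.MvPolynomial
import Mathlib.RingTheory.MvPolynomial.Basic
import Mathlib.Algebra.MvPolynomial.Funext

/-! Characters of a finitely generated ℂ-domain avoiding a nonzero element are dense. -/

open Filter Topology Polynomial

noncomputable section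

namespace Groth.Agent.AnLib

/-- A character extends along an integral extension inside a domain. -/
theorem exists_extend {B A : Type*} [CommRing B] [CommRing A] [IsDomain A] [Algebra B A]
    [Algebra.IsIntegral B A] (hinj : Function.Injective (algebraMap B A)) (χ : B →+* ℂ)
    (hχ : Function.Surjective χ) : ∃ ψ : A →+* ℂ, ψ.comp (algebraMap B A) = χ := by
  have hbot : RingHom.ker (algebraMap B A) = ⊥ := (RingHom.injective_iff_ker_eq_bot _).1 hinj
  have : (RingHom.ker χ).IsMaximal := RingHom.ker_isMaximal_of_surjective χ hχ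
  obtain ⟨Q, hQ, hQc⟩ := Ideal.exists_ideal_over_prime_of_isIntegral_of_isDomain (S := A) (RingHom.ker χ)
    (by rw [hbot]; exact bot_le)
  have hle : RingHom.ker χ ≤ RingHom.ker ((Ideal.Quotient.mk Q).comp (algebraMap B A)) := fun b hb => by
    rw [← hQc] at hb
    exact Ideal.Quotient.eq_zero_iff_mem.2 hb
  let ι : ℂ →+* A ⧸ Q := RingHom.liftOfSurjective χ hχ ⟨(Ideal.Quotient.mk Q).comp (algebraMap B A), hle⟩
  have hι : ι.comp χ = (Ideal.Quotient.mk Q).comp (algebraMap B A) :=
    RingHom.ext fun b => show ι (χ b) = _ from RingHom.liftOfRightInverse_comp_apply χ _ _ _ b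
  have hint : ι.IsIntegral := by
    refine RingHom.IsIntegral.tower_top χ ι ?_
    rw [hι]
    exact RingHom.IsIntegral.trans _ _ (Algebra.IsIntegral.isIntegral (R := B))
      (RingHom.isIntegral_of_surjective _ Ideal.Quotient.mk_surjective)
  let e := RingEquiv.ofBijective ι (IsAlgClosed.ringHom_bijective_of_isIntegral ι hint)
  refine ⟨e.symm.toRingHom.comp (Ideal.Quotient.mk Q), RingHom.ext fun b => ?_⟩
  show e.symm ((Ideal.Quotient.mk Q).comp (algebraMap B A) b) = χ b
  rw [← hι]
  exact e.symm_apply_apply (χ b)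

theorem norm_le_of_isRoot {F : ℂ[X]} (hF : F.Monic) {z : ℂ} (hz : F.IsRoot z) :
    ‖z‖ ≤ 1 + ∑ j ∈ Finset.range F.natDegree, ‖F.coeff j‖ := by
  have hS : (0 : ℝ) ≤ ∑ j ∈ Finset.range F.natDegree, ‖F.coeff j‖ := by positivity
  rcases le_or_gt ‖z‖ 1 with h | h
  · linarith
  set S := ∑ j ∈ Finset.range F.natDegree, ‖F.coeff j‖
  have h0 : z ^ F.natDegree = -∑ j ∈ Finset.range F.natDegree, F.coeff j * z ^ j := by
    have := hz.eq_zero
    rw [eval_eq_sum_range, Finset.sum_range_succ, hF.coeff_natDegree, one_mul] at this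
    linear_combination this
  rcases Nat.eq_zero_or_pos F.natDegree with hd | hd
  · rw [hd] at h0; simp at h0
  · have h1 : ‖z‖ ^ F.natDegree ≤ S * ‖z‖ ^ (F.natDegree - 1) := by
      rw [← norm_pow, h0, norm_neg, Finset.sum_mul]
      refine (norm_sum_le _ _).trans (Finset.sum_le_sum fun j hj => ?_)
      rw [norm_mul, norm_pow]
      refine mul_le_mul_of_nonneg_left (pow_le_pow_right₀ h.le ?_) (norm_nonneg _)
      rw [Finset.mem_range] at hj; omega
    have h2 : ‖z‖ ^ F.natDegree = ‖z‖ * ‖z‖ ^ (F.natDegree - 1) := by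
      rw [← pow_succ', Nat.sub_add_cancel hd]
    rw [h2] at h1
    have := le_of_mul_le_mul_right h1 (pow_pos (one_pos.trans h) _)
    linarith

theorem exists_root_norm_le {F : ℂ[X]} (hF : F.Monic) (hd : 0 < F.natDegree) {r : ℝ} (hr : 0 ≤ r)
    (h : ‖F.coeff 0‖ < r ^ F.natDegree) : ∃ z, F.IsRoot z ∧ ‖z‖ ≤ r := by
  by_contra hne
  push Not at hne
  have hsp : F.Splits := IsAlgClosed.splits F
  have hprod : ‖F.coeff 0‖ = (F.roots.map (‖·‖)).prod := by
    rw [hsp.coeff_zero_eq_prod_roots_of_monic hF, norm_mul, norm_pow, norm_neg, norm_one, one_pow, one_mul]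
    exact map_multiset_prod (normHom (α := ℂ)) F.roots
  have hle : r ^ Multiset.card F.roots ≤ (F.roots.map (‖·‖)).prod := by
    have : ∀ x ∈ F.roots, r ≤ ‖x‖ := fun x hx => (hne x (isRoot_of_mem_roots hx)).le
    clear hprod
    revert this
    generalize F.roots = t
    intro this
    induction t using Multiset.induction_on with
    | empty => simp
    | cons a t ih =>
      simp only [Multiset.card_cons, Multiset.map_cons, Multiset.prod_cons, pow_succ']
      exact mul_le_mul (this a (by simp)) (ih fun x hx => this x (by simp [hx])) (pow_nonneg hr _) (norm_nonneg _)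
  rw [← hsp.natDegree_eq_card_roots] at hle
  linarith

theorem exists_near_eval_ne_zero {d : ℕ} (g : MvPolynomial (Fin d) ℂ) (hg : g ≠ 0) {O : Set (Fin d → ℂ)}
    (hO : IsOpen O) {p : Fin d → ℂ} (hp : p ∈ O) : ∃ s ∈ O, MvPolynomial.eval s g ≠ 0 := by
  obtain ⟨q, hq⟩ : ∃ q, MvPolynomial.eval q g ≠ 0 := by
    by_contra h
    push Not at h
    exact hg (MvPolynomial.funext fun x => by simp [h x])
  let line : ℂ[X] := MvPolynomial.aeval (fun i => Polynomial.C (p i) + Polynomial.X * Polynomial.C (q i - p i)) g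
  have hline : ∀ c, line.eval c = MvPolynomial.eval (fun i => p i + c * (q i - p i)) g := by
    intro c
    show Polynomial.evalRingHom c (MvPolynomial.aeval _ g) = _
    rw [MvPolynomial.aeval_def, MvPolynomial.eval₂_comp_left, MvPolynomial.eval, MvPolynomial.coe_eval₂Hom]
    congr 1 <;> ext <;> simp
  have hne : line ≠ 0 := fun h => hq (by
    have := hline 1
    simpa [h] using this.symm)
  have hc : Continuous fun c : ℂ => fun i => p i + c * (q i - p i) := by fun_prop
  have hmem : (fun c : ℂ => fun i => p i + c * (q i - p i)) ⁻¹' O ∈ 𝓝 (0 : ℂ) :=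
    (hO.preimage hc).mem_nhds (by simpa using hp)
  have hinf : ((fun c : ℂ => fun i => p i + c * (q i - p i)) ⁻¹' O).Infinite := infinite_of_mem_nhds (0 : ℂ) hmem
  obtain ⟨c, hc, hcr⟩ := hinf.exists_notMem_finset line.roots.toFinset
  refine ⟨_, hc, ?_⟩
  rw [← hline]
  exact fun h => hcr (Multiset.mem_toFinset.2 ((mem_roots hne).2 h))

variable {A : Type} [CommRing A] [Algebra ℂ A]

theorem finite_fibre {d : ℕ} [Algebra (MvPolynomial (Fin d) ℂ) A] [Module.Finite (MvPolynomial (Fin d) ℂ) A]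
    (p : Fin d → ℂ) : {φ : A →+* ℂ | φ.comp (algebraMap (MvPolynomial (Fin d) ℂ) A) = MvPolynomial.eval p}.Finite := by
  classical
  obtain ⟨S, hS⟩ := Module.Finite.fg_top (R := MvPolynomial (Fin d) ℂ) (M := A)
  let roots : A → Finset ℂ := fun b =>
    ((minpoly (MvPolynomial (Fin d) ℂ) b).map (MvPolynomial.eval p)).roots.toFinset
  have hmem : ∀ φ : A →+* ℂ, φ.comp (algebraMap (MvPolynomial (Fin d) ℂ) A) = MvPolynomial.eval p →
      ∀ b : A, φ b ∈ roots b := by
    intro φ hφ b
    have hi : IsIntegral (MvPolynomial (Fin d) ℂ) b := IsIntegral.of_finite _ b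
    rw [Multiset.mem_toFinset, mem_roots ((minpoly.monic hi).map _).ne_zero, IsRoot, eval_map, ← hφ,
      ← hom_eval₂, ← aeval_def, minpoly.aeval, map_zero]
  refine Set.Finite.of_finite_image (f := fun φ : A →+* ℂ => fun b : S => φ b.1) ?_ ?_
  · refine (Set.Finite.pi' fun b : S => (roots b.1).finite_toSet).subset ?_
    rintro _ ⟨φ, hφ, rfl⟩ b
    exact hmem φ hφ b.1
  · intro φ hφ φ' hφ' h
    ext a
    have : a ∈ Submodule.span (MvPolynomial (Fin d) ℂ) (S : Set A) := by rw [hS]; trivial
    induction this using Submodule.span_induction with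
    | mem x hx => exact congrFun h ⟨x, hx⟩
    | zero => simp
    | add x y _ _ hx hy => simp [hx, hy]
    | smul r x _ hx =>
      rw [Algebra.smul_def, map_mul, map_mul, hx]
      exact congrArg (· * φ' x) ((congrArg (· r) hφ).trans (congrArg (· r) hφ').symm)

/-- The main density statement, in coordinates. -/
theorem mem_closure_char [IsDomain A] {k : ℕ} (a : Fin k → A)
    (ha : Function.Surjective (MvPolynomial.aeval a : MvPolynomial (Fin k) ℂ → A))
    (φ : A →ₐ[ℂ] ℂ) {h : A} (hh : h ≠ 0) :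
    (fun i => φ (a i)) ∈ closure {z : Fin k → ℂ | ∃ ψ : A →ₐ[ℂ] ℂ, ψ h ≠ 0 ∧ ∀ i, ψ (a i) = z i} := by
  classical
  have : Algebra.FiniteType ℂ A := Algebra.FiniteType.of_surjective (MvPolynomial.aeval a) ha
  obtain ⟨d, g, hginj, hgfin, -, -⟩ := DimLib.exists_normalization (k := ℂ) (A := A)
  algebraize [g.toRingHom]
  let P := MvPolynomial (Fin d) ℂ
  have : Module.Finite P A := hgfin
  have : IsScalarTower ℂ P A := IsScalarTower.of_algebraMap_eq fun x => (g.commutes x).symm
  have hinj : Function.Injective (algebraMap P A) := hginj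
  have : Module.IsTorsionFree P A := Module.isTorsionFree_iff_algebraMap_injective.2 hinj
  have hint : ∀ b : A, IsIntegral P b := fun b => IsIntegral.of_finite P b
  let p : Fin d → ℂ := fun i => φ (g (MvPolynomial.X i))
  have hφp : φ.toRingHom.comp (algebraMap P A) = MvPolynomial.eval p :=
    MvPolynomial.ringHom_ext (fun c => by
      show φ (g (MvPolynomial.C c)) = _
      rw [← MvPolynomial.algebraMap_eq, g.commutes, φ.commutes]; simp) (fun i => by
      show φ (g (MvPolynomial.X i)) = _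
      simp [p])
  obtain ⟨t, ht0, ht⟩ : ∃ t : A, φ t = 0 ∧
      ∀ φ' : A →+* ℂ, φ'.comp (algebraMap P A) = MvPolynomial.eval p → φ' t = 0 → φ' = φ.toRingHom := by
    let T := ((finite_fibre (A := A) p).toFinset).erase φ.toRingHom
    have hsep : ∀ φ' : A →+* ℂ, ∃ e : A, φ e = 1 ∧ (φ' ∈ T → φ' e = 0) := by
      intro φ'
      by_cases hT : φ' ∈ T
      · obtain ⟨hne, hmem⟩ := Finset.mem_erase.1 hT
        obtain ⟨b, hb⟩ : ∃ b, φ' b ≠ φ b := by
          by_contra hc; push Not at hc; exact hne (RingHom.ext hc)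
        have hC : ∀ c : ℂ, φ' (algebraMap ℂ A c) = c := fun c => by
          rw [IsScalarTower.algebraMap_apply ℂ P A, ← RingHom.comp_apply, (Set.Finite.mem_toFinset _).1 hmem]
          simp [P]
        refine ⟨algebraMap ℂ A (φ b - φ' b)⁻¹ * (b - algebraMap ℂ A (φ' b)), ?_, fun _ => ?_⟩
        · rw [map_mul, map_sub, φ.commutes, φ.commutes]
          simpa using inv_mul_cancel₀ (sub_ne_zero.2 hb.symm)
        · rw [map_mul, map_sub, hC, hC]; simp
      · exact ⟨1, map_one φ, fun h => absurd h hT⟩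
    choose e he₁ he₂ using hsep
    refine ⟨1 - ∏ x ∈ T, e x, by simp [map_prod, he₁], fun φ' hφ' h0 => ?_⟩
    by_contra hne
    have hT : φ' ∈ T := Finset.mem_erase.2 ⟨hne, (Set.Finite.mem_toFinset _).2 hφ'⟩
    rw [map_sub, map_one, map_prod, Finset.prod_eq_zero hT (he₂ φ' hT)] at h0
    simp at h0
  let F := minpoly P t
  have hF : F.Monic := minpoly.monic (hint t)
  have hFd : 0 < F.natDegree := minpoly.natDegree_pos (hint t)
  have hF0 : MvPolynomial.eval p (F.coeff 0) = 0 := by
    have := congrArg φ.toRingHom (minpoly.aeval P t)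
    rw [aeval_def, hom_eval₂, hφp, map_zero, AlgHom.toRingHom_eq_coe, RingHom.coe_coe, ht0, eval₂_at_zero] at this
    exact this
  let G := (minpoly P h).coeff 0
  have hG : G ≠ 0 := fun h0 => hh (by
    have hX : Polynomial.X ∣ minpoly P h := Polynomial.X_dvd_iff.2 h0
    have hass := (Polynomial.irreducible_X (R := P)).associated_of_dvd (minpoly.irreducible (hint h)) hX
    obtain ⟨v, hv⟩ := hass
    have := congrArg (Polynomial.aeval h) hv
    rw [map_mul, minpoly.aeval, Polynomial.aeval_X] at this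
    exact (IsUnit.mul_left_eq_zero (v.isUnit.map (Polynomial.aeval h))).1 this)
  have key : ∀ m : ℕ, ∃ ψ : A →ₐ[ℂ] ℂ, ψ h ≠ 0 ∧ dist (fun i => ψ (g (MvPolynomial.X i))) p ≤ 1 / (m + 1) ∧ ‖ψ t‖ ≤ 1 / (m + 1) := by
    intro m
    have hr : (0 : ℝ) < 1 / (m + 1) := by positivity
    have hO : IsOpen (Metric.ball p (1 / (m + 1) : ℝ) ∩ (fun s => ‖MvPolynomial.eval s (F.coeff 0)‖) ⁻¹' Set.Iio ((1 / (m + 1) : ℝ) ^ F.natDegree)) :=
      Metric.isOpen_ball.inter (isOpen_Iio.preimage (MvPolynomial.continuous_eval _).norm)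
    obtain ⟨s, ⟨hs1, hs2⟩, hsG⟩ := exists_near_eval_ne_zero G hG hO (p := p)
      ⟨Metric.mem_ball_self hr, by simp only [Set.mem_preimage, hF0, norm_zero, Set.mem_Iio]; exact pow_pos hr _⟩
    obtain ⟨θ, hθ, hθr⟩ := exists_root_norm_le (hF.map (MvPolynomial.eval s)) (by rwa [hF.natDegree_map]) hr.le
      (by rw [coeff_map, hF.natDegree_map]; exact hs2)
    have hθ' : F.eval₂ (MvPolynomial.eval s) θ = 0 := by rwa [IsRoot, eval_map] at hθ
    let χ : AdjoinRoot F →+* ℂ := AdjoinRoot.lift (MvPolynomial.eval s) θ hθ'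
    let ιB : AdjoinRoot F →+* A := AdjoinRoot.lift (algebraMap P A) t (by rw [← aeval_def]; exact minpoly.aeval P t)
    have hιinj : Function.Injective ιB := by
      rw [injective_iff_map_eq_zero]
      intro x hx
      obtain ⟨Q, rfl⟩ := AdjoinRoot.mk_surjective x
      rw [AdjoinRoot.lift_mk, ← aeval_def, minpoly.isIntegrallyClosed_dvd_iff (hint t)] at hx
      rwa [AdjoinRoot.mk_eq_zero]
    letI : Algebra (AdjoinRoot F) A := ιB.toAlgebra
    have : Algebra.IsIntegral (AdjoinRoot F) A := ⟨fun b => by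
      refine RingHom.IsIntegral.tower_top (AdjoinRoot.of F) ιB ?_ b
      have : ιB.comp (AdjoinRoot.of F) = algebraMap P A := RingHom.ext fun x => AdjoinRoot.lift_of (by rw [← aeval_def]; exact minpoly.aeval P t)
      rw [this]
      exact fun b => hint b⟩
    have hχC : ∀ c : ℂ, χ (AdjoinRoot.of F (MvPolynomial.C c)) = c := fun c =>
      (AdjoinRoot.lift_of hθ').trans (MvPolynomial.eval_C c)
    obtain ⟨ψ, hψ⟩ := exists_extend (A := A) hιinj χ fun c => ⟨_, hχC c⟩
    have hψP : ∀ x : P, ψ (algebraMap P A x) = MvPolynomial.eval s x := fun x => by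
      have := congrArg (fun f : AdjoinRoot F →+* ℂ => f (AdjoinRoot.of F x)) hψ
      simpa [RingHom.algebraMap_toAlgebra, ιB, χ] using this
    refine ⟨{ ψ with commutes' := fun c => ?_ }, ?_, ?_, ?_⟩
    · show ψ (algebraMap ℂ A c) = c
      rw [IsScalarTower.algebraMap_apply ℂ P A, hψP]; simp [P]
    · intro h0
      have h1 : ψ h = 0 := h0
      have := congrArg ψ (minpoly.aeval P h)
      rw [aeval_def, hom_eval₂, h1, map_zero, eval₂_at_zero, RingHom.comp_apply, hψP] at this
      exact hsG this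
    · refine le_of_eq_of_le ?_ (Metric.mem_ball.1 hs1).le
      congr 1
      funext i
      show ψ (algebraMap P A (MvPolynomial.X i)) = s i
      rw [hψP]; simp
    · show ‖ψ t‖ ≤ _
      have := congrArg (fun f : AdjoinRoot F →+* ℂ => f (AdjoinRoot.root F)) hψ
      have h2 : ψ t = θ := by simpa [RingHom.algebraMap_toAlgebra, ιB, χ] using this
      rw [h2]; exact hθr
  choose ψ hψh hψp hψt using key
  have hpt : Tendsto (fun m => (fun i => ψ m (g (MvPolynomial.X i)))) atTop (𝓝 p) :=
    tendsto_iff_dist_tendsto_zero.2 (squeeze_zero (fun _ => dist_nonneg) hψp tendsto_one_div_add_atTop_nhds_zero_nat)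
  have hev : ∀ (m : ℕ) (x : P), ψ m (algebraMap P A x) = MvPolynomial.eval (fun i => ψ m (g (MvPolynomial.X i))) x := by
    intro m x
    refine congrArg (fun f : P →+* ℂ => f x) (MvPolynomial.ringHom_ext (f := (ψ m).toRingHom.comp (algebraMap P A)) (fun c => ?_) (fun i => ?_))
    · show ψ m (g (MvPolynomial.C c)) = _
      rw [← MvPolynomial.algebraMap_eq, g.commutes, (ψ m).commutes]; simp
    · show ψ m (g (MvPolynomial.X i)) = _
      simp
  have hev_tendsto : ∀ x : P, Tendsto (fun m => ψ m (algebraMap P A x)) atTop (𝓝 (MvPolynomial.eval p x)) := fun x => by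
    simp only [hev]
    exact ((MvPolynomial.continuous_eval x).tendsto p).comp hpt
  -- boundedness
  have hbd : ∀ b : A, ∃ R, ∀ m, ‖ψ m b‖ ≤ R := by
    intro b
    let Fb := minpoly P b
    have hconv : Tendsto (fun m => 1 + ∑ j ∈ Finset.range Fb.natDegree, ‖ψ m (algebraMap P A (Fb.coeff j))‖) atTop
        (𝓝 (1 + ∑ j ∈ Finset.range Fb.natDegree, ‖MvPolynomial.eval p (Fb.coeff j)‖)) :=
      tendsto_const_nhds.add (tendsto_finsetSum _ fun j _ => (hev_tendsto _).norm)
    obtain ⟨R, hR⟩ := hconv.bddAbove_range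
    refine ⟨R, fun m => le_trans ?_ (hR ⟨m, rfl⟩)⟩
    have hmon : Fb.Monic := minpoly.monic (hint b)
    have := norm_le_of_isRoot (hmon.map ((ψ m).toRingHom.comp (algebraMap P A))) (z := ψ m b) (by
      rw [IsRoot, eval_map]
      exact (hom_eval₂ Fb (algebraMap P A) (ψ m).toRingHom b).symm.trans (by rw [← aeval_def, minpoly.aeval, map_zero]))
    simpa [hmon.natDegree_map] using this
  choose R hR using hbd
  let z : ℕ → (Fin k → ℂ) := fun m i => ψ m (a i)
  have hz : ∀ m, z m ∈ Metric.closedBall (0 : Fin k → ℂ) (∑ i, |R (a i)|) := fun m => by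
    rw [mem_closedBall_zero_iff, pi_norm_le_iff_of_nonneg (by positivity)]
    exact fun i => ((hR _ m).trans (le_abs_self _)).trans (Finset.single_le_sum (fun j _ => abs_nonneg (R (a j))) (Finset.mem_univ i))
  obtain ⟨z₀, -, u, hu, hlim⟩ := tendsto_subseq_of_bounded Metric.isBounded_closedBall hz
  -- the limit is a character
  have hlimA : ∀ Q : MvPolynomial (Fin k) ℂ, Tendsto (fun m => ψ (u m) (MvPolynomial.aeval a Q)) atTop (𝓝 (MvPolynomial.eval z₀ Q)) := fun Q => by
    have e : ∀ m, ψ (u m) (MvPolynomial.aeval a Q) = MvPolynomial.eval (z (u m)) Q := fun m => by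
      rw [← AlgHom.comp_apply, MvPolynomial.comp_aeval]; rfl
    simp only [e]
    exact ((MvPolynomial.continuous_eval Q).tendsto z₀).comp hlim
  let φ' : A →+* ℂ := RingHom.liftOfSurjective (MvPolynomial.aeval a).toRingHom ha ⟨MvPolynomial.eval z₀, fun Q hQ => by
    have h1 := hlimA Q
    have h2 : MvPolynomial.aeval a Q = 0 := hQ
    simp only [h2, map_zero] at h1
    exact (tendsto_nhds_unique h1 tendsto_const_nhds)⟩
  have hφ' : ∀ b, Tendsto (fun m => ψ (u m) b) atTop (𝓝 (φ' b)) := fun b => by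
    obtain ⟨Q, rfl⟩ := ha b
    have : φ' (MvPolynomial.aeval a Q) = MvPolynomial.eval z₀ Q := RingHom.liftOfRightInverse_comp_apply _ _ _ _ Q
    rw [this]; exact hlimA Q
  have heq : φ' = φ.toRingHom := by
    refine ht φ' (RingHom.ext fun x => tendsto_nhds_unique (hφ' _) ((hev_tendsto x).comp hu.tendsto_atTop)) ?_
    refine tendsto_nhds_unique (hφ' t) ?_
    have : Tendsto (fun m => ψ m t) atTop (𝓝 0) :=
      squeeze_zero_norm hψt tendsto_one_div_add_atTop_nhds_zero_nat
    exact this.comp hu.tendsto_atTop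
  refine mem_closure_of_tendsto (f := fun m => z (u m)) (b := atTop) ?_ (Eventually.of_forall fun m => ⟨ψ (u m), hψh _, fun i => rfl⟩)
  refine tendsto_pi_nhds.2 fun i => ?_
  have := hφ' (a i)
  rw [heq] at this
  exact this

end Groth.Agent.AnLib
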