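import Groth.Agent.AnLib.Topology
import Mathlib.Topology.Compactness.LocallyCompact
import Mathlib.RingTheory.FiniteType

/-! Affine charts of ℂ-points. -/

open AlgebraicGeometry CategoryTheory TopologicalSpace Opposite Topology

noncomputable section

namespace Groth.Agent.AnLib

open An

variable {X : Scheme.{0}} [X.Over SC] [LocallyOfFiniteType (X ↘ SC)]

theorem exists_surjective_eval₂ [IsAffine X] : ∃ (n : ℕ) (s : Fin n → Γ(X, ⊤)),
    Function.Surjective (MvPolynomial.eval₂Hom (strHom X) s) := by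
  have h : (X ↘ SC).appTop.hom.FiniteType :=
    (HasRingHomProperty.iff_of_isAffine (P := @LocallyOfFiniteType)).1 inferInstance
  have h' : (strHom X).FiniteType :=
    h.comp (RingHom.FiniteType.of_surjective _
      (Scheme.ΓSpecIso (CommRingCat.of ℂ)).symm.commRingCatIsoToRingEquiv.surjective)
  let _ : Algebra ℂ Γ(X, ⊤) := (strHom X).toAlgebra
  have : Algebra.FiniteType ℂ Γ(X, ⊤) := h'
  obtain ⟨n, φ, hφ⟩ := Algebra.FiniteType.iff_quotient_mvPolynomial''.1 this
  refine ⟨n, fun i => φ (MvPolynomial.X i), fun a => ?_⟩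
  obtain ⟨F, rfl⟩ := hφ a
  exact ⟨F, congrArg (fun ψ : MvPolynomial (Fin n) ℂ →+* Γ(X, ⊤) => ψ F)
    (MvPolynomial.ringHom_ext (f := MvPolynomial.eval₂Hom (strHom X) fun i => φ (MvPolynomial.X i)) (g := φ.toRingHom)
      (fun c => by simp; rfl) (fun i => by simp))⟩

/-- Around every ℂ-point an affine open with a closed embedding of its points in ℂ^n. -/
theorem exists_chart (x : Pts X) : ∃ (W : X.Opens) (_ : IsAffineOpen W), x.pt ∈ W ∧
    ∃ (n : ℕ) (c : Pts W.toScheme → (Fin n → ℂ)), IsClosedEmbedding c := by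
  obtain ⟨W, hW, hxW, -⟩ := exists_isAffineOpen_mem_and_subset (x := x.pt) (U := (⊤ : X.Opens)) trivial
  have : IsAffine W.toScheme := hW
  have : LocallyOfFiniteType (W.toScheme ↘ SC) := inferInstanceAs (LocallyOfFiniteType (W.ι ≫ (X ↘ SC)))
  obtain ⟨n, s, hs⟩ := exists_surjective_eval₂ (X := W.toScheme)
  exact ⟨W, hW, hxW, n, _, isClosedEmbedding_coords s hs⟩

theorem t1Space_pts : T1Space (Pts X) := ⟨fun x => by
  have h : ({x} : Set (Pts X)) = Pts.pt ⁻¹' {x.pt} :=
    Set.ext fun y => ⟨fun h => congrArg Pts.pt h, fun h => pt_injective h⟩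
  rw [h]; exact (isClosed_pt x).preimage Pts.continuous_pt⟩

theorem locallyCompactSpace_pts : LocallyCompactSpace (Pts X) := by
  refine ⟨fun x N hN => ?_⟩
  obtain ⟨W, hW, hxW, n, c, hc⟩ := exists_chart x
  have hj := isOpenEmbedding_map W.ι
  obtain ⟨w, rfl⟩ := exists_map_eq_of_isOpenImmersion W.ι x (by rw [Scheme.Opens.range_ι]; exact hxW)
  have : LocallyCompactSpace (Pts W.toScheme) := hc.locallyCompactSpace
  obtain ⟨K, hK, hKN, hKc⟩ := LocallyCompactSpace.local_compact_nhds w (Pts.map W.ι ⁻¹' N)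
    (hj.continuous.continuousAt hN)
  exact ⟨Pts.map W.ι '' K, hj.isOpenMap.image_mem_nhds hK, Set.image_subset_iff.2 hKN, hKc.image hj.continuous⟩

end Groth.Agent.AnLib
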