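import Groth.Agent.AnLib.Rational
import Groth.Agent.AnLib.Chart
import Groth.Agent.Props12.KerReduced
import Mathlib.AlgebraicGeometry.Noetherian
import Mathlib.Topology.Connected.Clopen

/-! Connectedness of the space of ℂ-points. -/

open AlgebraicGeometry CategoryTheory TopologicalSpace Topology Filter

noncomputable section

namespace Groth.Agent.AnLib

/-- A nonzero ℂ-algebra of finite type has a character. -/
theorem nonempty_algHom {A : Type} [CommRing A] [Nontrivial A] [Algebra ℂ A] [Algebra.FiniteType ℂ A] :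
    Nonempty (A →ₐ[ℂ] ℂ) := by
  obtain ⟨m, hm⟩ := Ideal.exists_maximal A
  let := Ideal.Quotient.field m
  have : Module.Finite ℂ (A ⧸ m) := finite_of_finite_type_of_isJacobsonRing ℂ (A ⧸ m)
  let e : ℂ ≃ₐ[ℂ] A ⧸ m := AlgEquiv.ofBijective (Algebra.ofId ℂ (A ⧸ m))
    IsAlgClosed.algebraMap_bijective_of_isIntegral
  exact ⟨e.symm.toAlgHom.comp (Ideal.Quotient.mkₐ ℂ m)⟩

theorem eq_zero_of_forall_algHom {A : Type} [CommRing A] [IsDomain A] [Algebra ℂ A] {k : ℕ} {a : Fin k → A}
    (ha : Function.Surjective (MvPolynomial.aeval a : MvPolynomial (Fin k) ℂ → A)) {b : A}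
    (h : ∀ ψ : A →ₐ[ℂ] ℂ, ψ b = 0) : b = 0 := by
  have : Algebra.FiniteType ℂ A := Algebra.FiniteType.of_surjective (MvPolynomial.aeval a) ha
  obtain ⟨φ⟩ := nonempty_algHom (A := A)
  by_contra hb
  have := mem_closure_char a ha φ hb
  simp [h] at this

/-- The characters of a domain of finite type over ℂ form a connected space. -/
theorem isPreconnected_range_char {A : Type} [CommRing A] [IsDomain A] [Algebra ℂ A] {k : ℕ} (a : Fin k → A)
    (ha : Function.Surjective (MvPolynomial.aeval a : MvPolynomial (Fin k) ℂ → A)) :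
    IsPreconnected (Set.range fun (ψ : A →ₐ[ℂ] ℂ) i => ψ (a i)) := by
  classical
  intro O₁ O₂ hO₁ hO₂ hcov h1 h2
  by_contra hne
  set Z := Set.range fun (ψ : A →ₐ[ℂ] ℂ) i => ψ (a i)
  have hex : ∀ x ∈ Z, x ∈ O₁ → x ∉ O₂ := fun x hx h1' h2' => hne ⟨x, hx, h1', h2'⟩
  obtain ⟨f, h, hf, hfh⟩ := exists_rational a ha (fun x => if x ∈ O₁ then 1 else 0) (fun γ s₀ hγ hZ => by
    rcases hcov hZ.self_of_nhds with hs | hs
    · refine (differentiableAt_const (1 : ℂ)).congr_of_eventuallyEq ?_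
      filter_upwards [hγ.continuousAt (hO₁.mem_nhds hs)] with s hs' using if_pos hs'
    · refine (differentiableAt_const (0 : ℂ)).congr_of_eventuallyEq ?_
      filter_upwards [hγ.continuousAt (hO₂.mem_nhds hs), hZ] with s hs' hZs
      exact if_neg fun h1' => hex _ hZs h1' hs') 0 (fun ψ => by
    simp only [map_zero, norm_zero, add_zero]
    split_ifs <;> simp)
  have hfh0 : (h * h - h * f) * f = 0 := eq_zero_of_forall_algHom ha fun ψ => by
    rw [map_mul, map_sub, map_mul, map_mul]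
    by_cases hψ : ψ f = 0
    · rw [hψ, mul_zero]
    · rw [hfh ψ hψ]
      split_ifs <;> ring
  have hden : ∀ O : Set (Fin k → ℂ), IsOpen O → (Z ∩ O).Nonempty → ∃ ψ : A →ₐ[ℂ] ℂ, ψ f ≠ 0 ∧ (fun i => ψ (a i)) ∈ O := by
    rintro O hO ⟨x, ⟨φ, rfl⟩, hx⟩
    obtain ⟨y, hy, ψ, hψ, hψy⟩ := mem_closure_iff.1 (mem_closure_char a ha φ hf) O hO hx
    refine ⟨ψ, hψ, ?_⟩
    rwa [show (fun i => ψ (a i)) = y from funext hψy]
  obtain ⟨ψ₁, hψ₁, hψ₁O⟩ := hden O₁ hO₁ h1
  obtain ⟨ψ₂, hψ₂, hψ₂O⟩ := hden O₂ hO₂ h2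
  have e₁ := hfh ψ₁ hψ₁
  rw [if_pos hψ₁O, mul_one] at e₁
  have e₂ := hfh ψ₂ hψ₂
  rw [if_neg (fun h' => hex _ ⟨ψ₂, rfl⟩ h' hψ₂O), mul_zero] at e₂
  rw [← mul_sub, mul_eq_zero, mul_eq_zero, sub_eq_zero] at hfh0
  rcases hfh0 with (rfl | rfl) | hf0
  · exact hψ₁ (by rw [← e₁, map_zero])
  · exact hψ₂ e₂
  · exact hf hf0

open An

variable {X : Scheme.{0}} [X.Over SC] [LocallyOfFiniteType (X ↘ SC)]

/-- An integral affine variety has connected points. -/
theorem preconnectedSpace_pts_of_isIntegral [IsAffine X] [IsIntegral X] : PreconnectedSpace (Pts X) := by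
  obtain ⟨k, s, hs⟩ := exists_surjective_eval₂ (X := X)
  letI : Algebra ℂ Γ(X, ⊤) := (strHom X).toAlgebra
  have : Nonempty ↥(⊤ : X.Opens) := ⟨⟨Classical.arbitrary X, trivial⟩⟩
  have ha : Function.Surjective (MvPolynomial.aeval s : MvPolynomial (Fin k) ℂ → Γ(X, ⊤)) := hs
  refine ⟨(isClosedEmbedding_coords s hs).isInducing.isPreconnected_image.1 ?_⟩
  convert isPreconnected_range_char s ha using 1
  ext z
  constructor
  · rintro ⟨x, -, rfl⟩
    exact ⟨{ evalHom x ⊤ trivial with commutes' := fun c => evTop_strHom x c }, funext fun i => rfl⟩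
  · rintro ⟨ψ, rfl⟩
    obtain ⟨x, hx⟩ := exists_evTop_eq (X := X) ψ.toRingHom fun c => ψ.commutes c
    exact ⟨x, Set.mem_univ _, funext fun i => hx (s i)⟩

omit [LocallyOfFiniteType (X ↘ SC)] in
theorem isPreconnected_preimage_of_isIrreducible_affine [LocallyOfFiniteType (X ↘ SC)] [IsAffine X] {C : Set X} (hC : IsClosed C) (hC' : IsIrreducible C) :
    IsPreconnected (Pts.pt ⁻¹' C : Set (Pts X)) := by
  let I := Scheme.IdealSheafData.vanishingIdeal (X := X) ⟨C, hC⟩
  letI : I.subscheme.Over SC := ⟨I.subschemeι ≫ (X ↘ SC)⟩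
  have : I.subschemeι.IsOver SC := ⟨rfl⟩
  have : LocallyOfFiniteType (I.subscheme ↘ SC) := inferInstanceAs (LocallyOfFiniteType (I.subschemeι ≫ (X ↘ SC)))
  have hr : Set.range I.subschemeι = C := by
    rw [Scheme.IdealSheafData.range_subschemeι, Scheme.IdealSheafData.coe_support_vanishingIdeal]
    rfl
  have : IsReduced I.subscheme := Props12.isReduced_subscheme_vanishingIdeal _
  have : IsAffine I.subscheme := isAffine_of_isAffineHom I.subschemeι
  have hirr : IsIrreducible (Set.univ : Set I.subscheme) := by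
    have hd : IsInducing I.subschemeι := I.subschemeι.isClosedEmbedding.isInducing
    obtain ⟨z, hz⟩ := hC'.nonempty
    rw [← hr] at hz
    obtain ⟨w, rfl⟩ := hz
    refine ⟨⟨w, trivial⟩, fun u v hu hv => ?_⟩
    obtain ⟨u', hu', rfl⟩ := hd.isOpen_iff.1 hu
    obtain ⟨v', hv', rfl⟩ := hd.isOpen_iff.1 hv
    rintro ⟨p, -, hp⟩ ⟨q, -, hq⟩
    obtain ⟨r, hrC, hru, hrv⟩ := hC'.isPreirreducible u' v' hu' hv' ⟨_, hr.le ⟨p, rfl⟩, hp⟩ ⟨_, hr.le ⟨q, rfl⟩, hq⟩
    obtain ⟨r, rfl⟩ := hr.ge hrC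
    exact ⟨r, trivial, hru, hrv⟩
  have : IrreducibleSpace I.subscheme := irreducibleSpace_def _ |>.2 hirr
  have : IsIntegral I.subscheme := isIntegral_of_irreducibleSpace_of_isReduced _
  have := preconnectedSpace_pts_of_isIntegral (X := I.subscheme)
  rw [← hr, ← range_map_of_isClosedImmersion]
  exact isPreconnected_range (Pts.continuous_map _)

/-- The points of an irreducible closed set form a preconnected set. -/
theorem isPreconnected_preimage_of_isIrreducible {C : Set X} (hC : IsClosed C) (hC' : IsIrreducible C) :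
    IsPreconnected (Pts.pt ⁻¹' C : Set (Pts X)) := by
  refine isPreconnected_of_forall_pair fun x hx y hy => ?_
  have key : ∀ z : Pts X, z.pt ∈ C → ∃ W : X.Opens, z.pt ∈ W ∧
      IsPreconnected (Pts.pt ⁻¹' (C ∩ W) : Set (Pts X)) := by
    intro z hz
    obtain ⟨W, hW, hzW, -⟩ := exists_isAffineOpen_mem_and_subset (x := z.pt) (U := (⊤ : X.Opens)) trivial
    have : IsAffine W.toScheme := hW
    have : LocallyOfFiniteType (W.toScheme ↘ SC) := inferInstanceAs (LocallyOfFiniteType (W.ι ≫ (X ↘ SC)))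
    have hirr : IsIrreducible (W.ι ⁻¹' C) := by
      refine hC'.preimage (W.ι.isOpenEmbedding) ?_
      exact ⟨z.pt, by rw [Scheme.Opens.range_ι]; exact ⟨hz, hzW⟩⟩
    have h1 := (isPreconnected_preimage_of_isIrreducible_affine (hC.preimage W.ι.continuous) hirr).image
      (Pts.map W.ι) (Pts.continuous_map _).continuousOn
    refine ⟨W, hzW, ?_⟩
    convert h1 using 1
    ext w
    constructor
    · rintro ⟨hwC, hwW⟩
      obtain ⟨w', rfl⟩ := exists_map_eq_of_isOpenImmersion W.ι w (by rw [Scheme.Opens.range_ι]; exact hwW)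
      exact ⟨w', by rwa [Pts.pt_map] at hwC, rfl⟩
    · rintro ⟨w', hw', rfl⟩
      rw [Set.mem_preimage, Pts.pt_map]
      exact ⟨hw', w'.pt.2⟩
  obtain ⟨Wx, hxW, hpx⟩ := key x hx
  obtain ⟨Wy, hyW, hpy⟩ := key y hy
  refine ⟨Pts.pt ⁻¹' (C ∩ Wx) ∪ Pts.pt ⁻¹' (C ∩ Wy), Set.union_subset (Set.preimage_mono Set.inter_subset_left)
    (Set.preimage_mono Set.inter_subset_left), Or.inl ⟨hx, hxW⟩, Or.inr ⟨hy, hyW⟩, ?_⟩
  obtain ⟨p, hpC, hp⟩ := hC'.isPreirreducible Wx Wy Wx.2 Wy.2 ⟨_, hx, hxW⟩ ⟨_, hy, hyW⟩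
  obtain ⟨q, hqC, hqx, hqy⟩ := exists_pt_mem (X := X) (hC.isLocallyClosed.inter (Wx.2.inter Wy.2).isLocallyClosed) ⟨p, hpC, hp⟩
  exact IsPreconnected.union q ⟨hqC, hqx⟩ ⟨hqC, hqy⟩ hpx hpy

/-- In a locally noetherian scheme a set stable under specialisation and generalisation is open. -/
theorem isOpen_of_stable [IsLocallyNoetherian X] {A : Set X}
    (h : ∀ p q : X, p ⤳ q → (p ∈ A ↔ q ∈ A)) : IsOpen A := by
  refine isOpen_iff_forall_mem_open.2 fun x hx => ?_
  obtain ⟨W, hW, hxW, -⟩ := exists_isAffineOpen_mem_and_subset (x := x) (U := (⊤ : X.Opens)) trivial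
  have : IsAffine W.toScheme := hW
  have : AlgebraicGeometry.IsNoetherian W.toScheme := { }
  let S := {C ∈ irreducibleComponents W.toScheme | ∀ η, IsGenericPoint η C → W.ι η ∉ A}
  have hcl : IsClosed (⋃ C ∈ S, C) :=
    (NoetherianSpace.finite_irreducibleComponents.subset fun C hC => hC.1).isClosed_biUnion
      fun C hC => isClosed_of_mem_irreducibleComponents C hC.1
  refine ⟨W.ι '' (⋃ C ∈ S, C)ᶜ, ?_, W.ι.isOpenEmbedding.isOpenMap _ hcl.isOpen_compl, ⟨x, hxW⟩, ?_, rfl⟩
  · rintro _ ⟨w, hw, rfl⟩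
    have hC := irreducibleComponent_mem_irreducibleComponents w
    obtain ⟨η, hη⟩ := QuasiSober.sober hC.1 (isClosed_of_mem_irreducibleComponents _ hC)
    by_contra hwA
    exact hw (Set.mem_biUnion (x := irreducibleComponent w)
      ⟨hC, fun η' hη' => by rw [hη'.eq hη]; exact fun hA => hwA ((h _ _ ((hη.specializes mem_irreducibleComponent).map W.ι.continuous)).1 hA)⟩
      mem_irreducibleComponent)
  · intro hmem
    obtain ⟨C, ⟨hC, hCA⟩, hxC⟩ := Set.mem_iUnion₂.1 hmem
    obtain ⟨η, hη⟩ := QuasiSober.sober hC.1 (isClosed_of_mem_irreducibleComponents _ hC)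
    exact hCA η hη ((h _ _ ((hη.specializes hxC).map W.ι.continuous)).2 hx)

/-- ℂ-points in the same connected component of `X` are in the same component of `X(ℂ)`. -/
theorem connectedComponent_eq_of_pt {x y : Pts X} (h : y.pt ∈ connectedComponent x.pt) :
    y ∈ connectedComponent x := by
  have : IsLocallyNoetherian X := LocallyOfFiniteType.isLocallyNoetherian (X ↘ SC)
  let A : Set X := {p | Pts.pt ⁻¹' closure {p} ⊆ connectedComponent x}
  have hne : ∀ p : X, ∃ z : Pts X, z.pt ∈ closure ({p} : Set X) := fun p =>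
    exists_pt_mem isClosed_closure.isLocallyClosed ⟨p, subset_closure rfl⟩
  have hor : ∀ p : X, ∀ z : Pts X, z.pt ∈ closure ({p} : Set X) → z ∈ connectedComponent x → p ∈ A := by
    intro p z hz hzx w hw
    rw [connectedComponent_eq hzx]
    exact ((isPreconnected_preimage_of_isIrreducible isClosed_closure
      (isIrreducible_singleton.closure))).subset_connectedComponent hz hw
  have hstab : ∀ p q : X, p ⤳ q → (p ∈ A ↔ q ∈ A) := by
    intro p q hpq
    have hsub : closure ({q} : Set X) ⊆ closure {p} := hpq.closure_subset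
    refine ⟨fun hp z hz => hp (hsub hz), fun hq => ?_⟩
    obtain ⟨z, hz⟩ := hne q
    exact hor p z (hsub hz) (hq hz)
  have hclopen : IsClopen A :=
    ⟨isOpen_compl_iff.1 (isOpen_of_stable fun p q hpq => not_congr (hstab p q hpq)), isOpen_of_stable hstab⟩
  have hxA : x.pt ∈ A := hor _ x (subset_closure rfl) mem_connectedComponent
  exact (hclopen.connectedComponent_subset hxA h) (subset_closure rfl)

theorem bijective_connectedComponentsMap :
    Function.Bijective (Pts.continuous_pt (X := X)).connectedComponentsMap := by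
  constructor
  · intro a b
    obtain ⟨x, rfl⟩ := ConnectedComponents.surjective_coe a
    obtain ⟨y, rfl⟩ := ConnectedComponents.surjective_coe b
    intro h
    exact (ConnectedComponents.coe_eq_coe'.2 (connectedComponent_eq_of_pt (ConnectedComponents.coe_eq_coe'.1 h.symm))).symm
  · intro c
    obtain ⟨p, rfl⟩ := ConnectedComponents.surjective_coe c
    obtain ⟨x, hx⟩ := exists_pt_mem isClosed_connectedComponent.isLocallyClosed ⟨p, mem_connectedComponent⟩
    exact ⟨(x : ConnectedComponents (Pts X)), ConnectedComponents.coe_eq_coe'.2 hx⟩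

theorem connectedSpace_iff : ConnectedSpace X ↔ ConnectedSpace (Pts X) := by
  have key : ∀ (α : Type) [TopologicalSpace α],
      ConnectedSpace α ↔ Nonempty α ∧ Subsingleton (ConnectedComponents α) := fun α _ =>
    ⟨fun h => ⟨inferInstance, inferInstance⟩, fun ⟨h1, h2⟩ =>
      have : PreconnectedSpace α := preconnectedSpace_iff_connectedComponent.2 fun x =>
        Set.eq_univ_of_forall fun y => ConnectedComponents.coe_eq_coe'.1 (Subsingleton.elim _ _)
      ⟨h1⟩⟩
  rw [key, key (Pts X), ← ConnectedComponents.nonempty_iff_nonempty, ← ConnectedComponents.nonempty_iff_nonempty (α := Pts X)]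
  let e := Equiv.ofBijective _ (bijective_connectedComponentsMap (X := X))
  exact ⟨fun ⟨h1, h2⟩ => ⟨e.nonempty, e.subsingleton⟩, fun ⟨h1, h2⟩ => ⟨e.symm.nonempty, e.symm.subsingleton⟩⟩

end Groth.Agent.AnLib
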