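import Groth.Agent.AnLib.Density
import Mathlib.Topology.Constructible

/-! Complex closure of constructible sets. -/

open AlgebraicGeometry CategoryTheory TopologicalSpace Topology

noncomputable section

namespace Groth.Agent.AnLib

open An

variable {X : Scheme.{0}} [X.Over SC] [LocallyOfFiniteType (X ↘ SC)]

theorem mem_closure_of_isLocallyClosed {Z : Set X} (hZ : IsLocallyClosed Z) {x : Pts X}
    (hx : x.pt ∈ closure Z) : x ∈ closure (Pts.pt ⁻¹' Z) := by
  obtain ⟨O, C, hO, hC, rfl⟩ := hZ
  let I := Scheme.IdealSheafData.vanishingIdeal (X := X) ⟨closure (O ∩ C), isClosed_closure⟩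
  letI : I.subscheme.Over SC := ⟨I.subschemeι ≫ (X ↘ SC)⟩
  have : I.subschemeι.IsOver SC := ⟨rfl⟩
  have : LocallyOfFiniteType (I.subscheme ↘ SC) := inferInstanceAs (LocallyOfFiniteType (I.subschemeι ≫ (X ↘ SC)))
  have hr : Set.range I.subschemeι = closure (O ∩ C) := by
    rw [Scheme.IdealSheafData.range_subschemeι, Scheme.IdealSheafData.coe_support_vanishingIdeal]
    rfl
  obtain ⟨w, rfl⟩ : x ∈ Set.range (Pts.map I.subschemeι) := by
    rw [range_map_of_isClosedImmersion, Set.mem_preimage, hr]; exact hx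
  rw [Pts.pt_map] at hx
  let V : I.subscheme.Opens := I.subschemeι ⁻¹ᵁ ⟨O, hO⟩
  have hsub : I.subschemeι '' (V : Set I.subscheme) = O ∩ closure (O ∩ C) := by
    rw [← hr]; exact Set.image_preimage_eq_inter_range
  have hOC : O ∩ closure (O ∩ C) = O ∩ C := subset_antisymm
    (Set.inter_subset_inter_right _ (closure_minimal Set.inter_subset_right hC))
    (Set.subset_inter Set.inter_subset_left subset_closure)
  have hw : w.pt ∈ closure (V : Set I.subscheme) := by
    rw [I.subschemeι.isClosedEmbedding.isInducing.closure_eq_preimage_closure_image, hsub, hOC]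
    exact hx
  refine closure_mono ?_ (image_closure_subset_closure_image (Pts.continuous_map I.subschemeι) ⟨w, mem_closure_of_open hw, rfl⟩)
  rintro _ ⟨y, hy, rfl⟩
  show (Pts.map I.subschemeι y).pt ∈ O ∩ C
  rw [Pts.pt_map, ← hOC, ← hsub]
  exact ⟨_, hy, rfl⟩

theorem mem_closure_of_isLocallyConstructible {T : Set X} (hT : IsLocallyConstructible T) {x : Pts X}
    (hx : x.pt ∈ closure T) : x ∈ closure (Pts.pt ⁻¹' T) := by
  obtain ⟨U, hxU, hU, hUT⟩ := hT x.pt
  obtain ⟨W, hW, hxW, hWU⟩ := exists_isAffineOpen_mem_and_subset (x := x.pt) (U := (⟨U, hU⟩ : X.Opens)) (mem_of_mem_nhds hxU)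
  have : IsAffine W.toScheme := hW
  have hWT : IsConstructible (W.ι ⁻¹' T) :=
    hUT.preimage_of_isOpenEmbedding (f := fun w : W.toScheme => (⟨W.ι w, hWU w.2⟩ : U)) (by
      refine Topology.IsOpenEmbedding.of_comp _ hU.isOpenEmbedding_subtypeVal ?_
      exact W.ι.isOpenEmbedding)
  have key : ∀ S : Set W.toScheme, IsConstructible S → W.ι '' S ⊆ T → x.pt ∈ closure (W.ι '' S) →
      x ∈ closure (Pts.pt ⁻¹' T) := by
    intro S hS
    induction S, hS using IsConstructible.induction_of_isTopologicalBasis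
      (b := fun f : Γ(W.toScheme, ⊤) => (W.toScheme.basicOpen f : Set W.toScheme)) with
    | basis =>
      have : IsTopologicalBasis _ := isBasis_basicOpen W.toScheme
      convert this using 1
      rw [← Set.range_comp]; rfl
    | isCompact_basis f => exact ((isAffineOpen_top W.toScheme).basicOpen f).isCompact
    | sdiff i s hs =>
      intro hsub hcl
      refine closure_mono (Set.preimage_mono hsub) (mem_closure_of_isLocallyClosed ?_ hcl)
      refine IsLocallyClosed.image ?_ W.ι.isOpenEmbedding.isInducing W.ι.isOpenEmbedding.isOpen_range.isLocallyClosed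
      exact (W.toScheme.basicOpen i).2.isLocallyClosed.inter
        ((isOpen_biUnion fun j _ => (W.toScheme.basicOpen j).2).isClosed_compl.isLocallyClosed)
    | union s hs t ht ihs iht =>
      intro hsub hcl
      rw [Set.image_union, Set.union_subset_iff] at hsub
      rw [Set.image_union, closure_union] at hcl
      exact hcl.elim (ihs hsub.1) (iht hsub.2)
  refine key _ hWT (Set.image_preimage_subset _ _) ?_
  rw [Set.image_preimage_eq_inter_range, Scheme.Opens.range_ι, Set.inter_comm]
  exact mem_closure_iff.2 fun o ho hxo => by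
    obtain ⟨y, ⟨hy1, hy2⟩, hy3⟩ := mem_closure_iff.1 hx (o ∩ W) (ho.inter W.2) ⟨hxo, hxW⟩
    exact ⟨y, hy1, hy2, hy3⟩

theorem preimage_closure_eq {T : Set X} (hT : IsLocallyConstructible T) :
    (Pts.pt ⁻¹' closure T : Set (Pts X)) = closure (Pts.pt ⁻¹' T) :=
  subset_antisymm (fun _ => mem_closure_of_isLocallyConstructible hT) (Pts.continuous_pt.closure_preimage_subset T)

theorem exists_pt_mem_of_isLocallyConstructible {T : Set X} (hT : IsLocallyConstructible T) (hne : T.Nonempty) :
    ∃ x : Pts X, x.pt ∈ T := by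
  obtain ⟨x, hx⟩ := exists_pt_mem (isClosed_closure (s := T)).isLocallyClosed hne.closure
  have := mem_closure_of_isLocallyConstructible hT hx
  by_contra h
  push Not at h
  have he : (Pts.pt ⁻¹' T : Set (Pts X)) = ∅ := Set.eq_empty_of_forall_notMem h
  rw [he, closure_empty] at this
  exact this

theorem isLocallyConstructible_compl {Z : Type*} [TopologicalSpace Z] {T : Set Z} (hT : IsLocallyConstructible T) :
    IsLocallyConstructible Tᶜ := fun z => by
  obtain ⟨U, h1, h2, h3⟩ := hT z
  exact ⟨U, h1, h2, h3.compl⟩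

theorem subset_iff {T T' : Set X} (hT : IsLocallyConstructible T) (hT' : IsLocallyConstructible T') :
    (Pts.pt ⁻¹' T : Set (Pts X)) ⊆ Pts.pt ⁻¹' T' ↔ T ⊆ T' := by
  refine ⟨fun h => ?_, fun h => Set.preimage_mono h⟩
  by_contra hne
  obtain ⟨x, hx, hx'⟩ := exists_pt_mem_of_isLocallyConstructible (hT.inter (isLocallyConstructible_compl hT')) (Set.not_subset.1 hne |>.imp fun y hy => hy)
  exact hx' (h hx)

theorem isClosed_iff {T : Set X} (hT : IsLocallyConstructible T) :
    IsClosed T ↔ IsClosed (Pts.pt ⁻¹' T : Set (Pts X)) := by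
  refine ⟨fun h => h.preimage Pts.continuous_pt, fun h => ?_⟩
  by_contra hne
  rw [← closure_subset_iff_isClosed] at hne
  obtain ⟨y, hy, hy'⟩ := Set.not_subset.1 hne
  obtain ⟨U, hyU, hU, hUT⟩ := hT y
  -- a closed point of the constructible set `closure T \ T` near `y`
  obtain ⟨z, hz, hz'⟩ : ∃ z : Pts X, z.pt ∈ closure T ∧ z.pt ∉ T := by
    obtain ⟨W, hW, hyW, hWU⟩ := exists_isAffineOpen_mem_and_subset (x := y) (U := (⟨U, hU⟩ : X.Opens)) (mem_of_mem_nhds hyU)
    letI : W.toScheme.Over SC := ⟨W.ι ≫ (X ↘ SC)⟩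
    have : LocallyOfFiniteType (W.toScheme ↘ SC) := inferInstanceAs (LocallyOfFiniteType (W.ι ≫ (X ↘ SC)))
    have : IsAffine W.toScheme := hW
    have : IsLocallyNoetherian W.toScheme := LocallyOfFiniteType.isLocallyNoetherian (W.toScheme ↘ SC)
    have : AlgebraicGeometry.IsNoetherian W.toScheme := { }
    have h1 : IsConstructible (W.ι ⁻¹' closure T) :=
      isConstructible_compl.1 ((NoetherianSpace.isCompact _).isConstructible ((isClosed_closure (s := T)).preimage W.ι.continuous).isOpen_compl)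
    have h2 : IsConstructible (W.ι ⁻¹' T) :=
      hUT.preimage_of_isOpenEmbedding (f := fun w : W.toScheme => (⟨W.ι w, hWU w.2⟩ : U)) (by
        exact Topology.IsOpenEmbedding.of_comp _ hU.isOpenEmbedding_subtypeVal W.ι.isOpenEmbedding)
    have : W.ι.IsOver SC := ⟨rfl⟩
    obtain ⟨w, hw, hw'⟩ := exists_pt_mem_of_isLocallyConstructible (h1.sdiff h2).isLocallyConstructible
      ⟨⟨y, hyW⟩, hy, hy'⟩
    exact ⟨Pts.map W.ι w, by rw [Pts.pt_map]; exact hw, by rw [Pts.pt_map]; exact hw'⟩
  have hz2 := mem_closure_of_isLocallyConstructible hT hz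
  rw [h.closure_eq] at hz2
  exact hz' hz2

theorem dense_iff {T : Set X} (hT : IsLocallyConstructible T) :
    Dense T ↔ Dense (Pts.pt ⁻¹' T : Set (Pts X)) := by
  refine ⟨fun h x => ?_, fun h => ?_⟩
  · exact mem_closure_of_isLocallyConstructible hT (h x.pt)
  · rw [dense_iff_inter_open]
    intro O hO hne
    obtain ⟨x, hx⟩ := exists_pt_mem hO.isLocallyClosed hne
    obtain ⟨y, hyO, hyT⟩ := h.inter_open_nonempty _ (hO.preimage Pts.continuous_pt) ⟨x, hx⟩
    exact ⟨y.pt, hyO, hyT⟩

end Groth.Agent.AnLib
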