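import Groth.Agent.AnLib.Chart
import Groth.Agent.AnLib.CharDense
import Mathlib.AlgebraicGeometry.Noetherian

/-! Zariski closure and complex closure agree on opens. -/

open AlgebraicGeometry CategoryTheory TopologicalSpace Topology

noncomputable section

namespace Groth.Agent.AnLib

open An

variable {X : Scheme.{0}} [X.Over SC] [LocallyOfFiniteType (X ↘ SC)]

theorem mem_closure_of_specializes [IsAffine X] {U : X.Opens} {η : X} (hη : η ∈ U) {x : Pts X}
    (hx : η ⤳ x.pt) : x ∈ closure (Pts.pt ⁻¹' (U : Set X)) := by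
  obtain ⟨k, s, hs⟩ := exists_surjective_eval₂ (X := X)
  let q : Ideal Γ(X, ⊤) := RingHom.ker (X.Γevaluation η).hom
  have hmem : ∀ f, f ∈ q ↔ η ∉ X.basicOpen f := fun f =>
    Scheme.evaluation_eq_zero_iff_notMem_basicOpen (U := (⊤ : X.Opens)) X η trivial f
  have : q.IsPrime := RingHom.ker_isPrime _
  obtain ⟨_, ⟨_, ⟨h, rfl⟩, rfl⟩, hηh, hhU⟩ := (isBasis_basicOpen X).exists_subset_of_mem_open hη U.2
  let A := Γ(X, ⊤) ⧸ q
  letI : Algebra ℂ Γ(X, ⊤) := (strHom X).toAlgebra
  let a : Fin k → A := fun i => Ideal.Quotient.mk q (s i)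
  have ha : Function.Surjective (MvPolynomial.aeval a : MvPolynomial (Fin k) ℂ → A) := by
    intro b
    obtain ⟨b, rfl⟩ := Ideal.Quotient.mk_surjective b
    obtain ⟨F, rfl⟩ := hs b
    refine ⟨F, ?_⟩
    exact congrArg (fun χ : MvPolynomial (Fin k) ℂ →+* A => χ F) (MvPolynomial.ringHom_ext
      (f := (MvPolynomial.aeval a).toRingHom) (g := (Ideal.Quotient.mk q).comp (MvPolynomial.eval₂Hom (strHom X) s))
      (fun c => by simp; rfl) (fun i => by simp [a]))
  let φ : A →ₐ[ℂ] ℂ :=
    { Ideal.Quotient.lift q (evalHom x ⊤ trivial) fun f hf => by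
        by_contra hne
        exact (hmem f).1 hf (hx.mem_open (X.basicOpen f).2 ((ev_ne_zero_iff x ⊤ trivial f).1 hne)) with
      commutes' := fun c => evTop_strHom x c }
  have hh : Ideal.Quotient.mk q h ≠ 0 := fun h0 => (hmem h).1 (Ideal.Quotient.eq_zero_iff_mem.1 h0) hηh
  have key := mem_closure_char a ha φ hh
  rw [(isClosedEmbedding_coords s hs).isInducing.closure_eq_preimage_closure_image]
  refine closure_mono ?_ key
  rintro z ⟨ψ, hψh, hψ⟩
  obtain ⟨y, hy⟩ := exists_evTop_eq (X := X) (ψ.toRingHom.comp (Ideal.Quotient.mk q)) (fun c => ψ.commutes c)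
  refine ⟨y, hhU ((ev_ne_zero_iff y ⊤ trivial h).1 (by rw [show y.ev ⊤ trivial h = y.evTop h from rfl, hy]; exact hψh)), ?_⟩
  funext i
  exact (hy (s i)).trans (hψ i)

/-- A ℂ-point in the Zariski closure of an open is in the complex closure of its points. -/
theorem mem_closure_of_open {U : X.Opens} {x : Pts X} (hx : x.pt ∈ closure (U : Set X)) :
    x ∈ closure (Pts.pt ⁻¹' (U : Set X)) := by
  obtain ⟨W, hW, hxW, -⟩ := exists_isAffineOpen_mem_and_subset (x := x.pt) (U := (⊤ : X.Opens)) trivial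
  have : IsAffine W.toScheme := hW
  have : LocallyOfFiniteType (W.toScheme ↘ SC) := inferInstanceAs (LocallyOfFiniteType (W.ι ≫ (X ↘ SC)))
  obtain ⟨w, rfl⟩ := exists_map_eq_of_isOpenImmersion W.ι x (by rw [Scheme.Opens.range_ι]; exact hxW)
  have hw : w.pt ∈ closure ((W.ι ⁻¹ᵁ U : W.toScheme.Opens) : Set W.toScheme) := by
    show w.pt ∈ closure (W.ι ⁻¹' (U : Set X))
    rw [← W.ι.isOpenEmbedding.isOpenMap.preimage_closure_eq_closure_preimage W.ι.continuous]
    show W.ι w.pt ∈ closure (U : Set X)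
    rwa [← Pts.pt_map]
  have : IsLocallyNoetherian W.toScheme := LocallyOfFiniteType.isLocallyNoetherian (W.toScheme ↘ SC)
  have : AlgebraicGeometry.IsNoetherian W.toScheme := { }
  set V : W.toScheme.Opens := W.ι ⁻¹ᵁ U
  let S := {C ∈ irreducibleComponents W.toScheme | (C ∩ (V : Set W.toScheme)).Nonempty}
  have hS : S.Finite := NoetherianSpace.finite_irreducibleComponents.subset fun C hC => hC.1
  have hsub : (V : Set W.toScheme) ⊆ ⋃ C ∈ S, C := fun z hz =>
    Set.mem_biUnion (x := irreducibleComponent z) ⟨irreducibleComponent_mem_irreducibleComponents z,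
      z, mem_irreducibleComponent, hz⟩ mem_irreducibleComponent
  have hcl : IsClosed (⋃ C ∈ S, C) := hS.isClosed_biUnion fun C hC => isClosed_of_mem_irreducibleComponents C hC.1
  obtain ⟨C, ⟨hC, hCV⟩, hwC⟩ := Set.mem_iUnion₂.1 (closure_minimal hsub hcl hw)
  obtain ⟨η, hη⟩ := QuasiSober.sober hC.1 (isClosed_of_mem_irreducibleComponents C hC)
  have hmain := mem_closure_of_specializes (U := V) ((hη.mem_open_set_iff V.2).2 hCV) (hη.specializes hwC)
  refine closure_mono ?_ (image_closure_subset_closure_image (Pts.continuous_map W.ι) ⟨w, hmain, rfl⟩)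
  rintro _ ⟨y, hy, rfl⟩
  show (Pts.map W.ι y).pt ∈ U
  rw [Pts.pt_map]; exact hy

end Groth.Agent.AnLib
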