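import Groth.Agent.AnLib.EpsSite
import Mathlib.Algebra.Category.Grp.AB
import Mathlib.CategoryTheory.Sites.Pullback

/-! Exactness of the inverse image along `ε`. -/

open CategoryTheory CategoryTheory.Limits AlgebraicGeometry An Opposite

noncomputable section

namespace Groth.Agent.AnLib

set_option backward.isDefEq.respectTransparency false
set_option backward.defeqAttrib.useBackward true

universe v₁ u₁ v u

theorem lan_preservesFiniteLimits {C : Type u₁} [Category.{v₁} C] {D : Type u₁} [Category.{v₁} D]
    (E : Type u) [Category.{v} E] [HasFiniteLimits E] [HasColimitsOfSize.{v₁, max u₁ v₁} E] [AB5OfSize.{v₁, max u₁ v₁} E]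
    (F : C ⥤ D) [RepresentablyFlat F] [∀ (G : Cᵒᵖ ⥤ E), F.op.HasPointwiseLeftKanExtension G] :
    PreservesFiniteLimits (F.op.lan : (Cᵒᵖ ⥤ E) ⥤ Dᵒᵖ ⥤ E) := by
  refine ⟨fun J _ _ => preservesLimitsOfShape_of_evaluation _ J fun K => ?_⟩
  have : IsFiltered (CostructuredArrow F.op K) :=
    IsFiltered.of_equivalence (structuredArrowOpEquivalence F (unop K))
  have : HasColimitsOfShape (CostructuredArrow F.op K) E := HasColimitsOfSize.has_colimits_of_shape _
  let iso : F.op.lan ⋙ (evaluation Dᵒᵖ E).obj K ≅
      (Functor.whiskeringLeft _ _ E).obj (CostructuredArrow.proj F.op K) ⋙ colim :=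
    NatIso.ofComponents (fun G => IsColimit.coconePointUniqueUpToIso
      (Functor.isPointwiseLeftKanExtensionLeftKanExtensionUnit F.op G K) (colimit.isColimit _)) (fun {G₁ G₂} φ => by
      apply (Functor.isPointwiseLeftKanExtensionLeftKanExtensionUnit F.op G₁ K).hom_ext
      intro T
      have h₁ := fun (G : Cᵒᵖ ⥤ E) => IsColimit.comp_coconePointUniqueUpToIso_hom
        (Functor.isPointwiseLeftKanExtensionLeftKanExtensionUnit F.op G K) (colimit.isColimit _) T
      have h₂ := congr_app (F.op.lanUnit.naturality φ) T.left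
      dsimp at h₁ h₂ ⊢
      simp only [Category.assoc] at h₁ ⊢
      simp only [Functor.lan, Functor.lanUnit] at h₂ ⊢
      rw [reassoc_of% h₁, NatTrans.naturality_assoc, ← reassoc_of% h₂, h₁, ι_colimMap, Functor.whiskerLeft_app]
      rfl)
  exact preservesLimitsOfShape_of_natIso iso.symm

variable (X : Scheme.{0}) [X.Over SC] [LocallyOfFiniteType (X ↘ SC)] [Fact An.EtaleLH] [An.EpsCont X]

theorem preservesFiniteLimits_epsPull : PreservesFiniteLimits (An.epsPull X) := by
  have := representablyFlat_eps X
  have : HasFilteredColimitsOfSize.{1, 1} AddCommGrpCat.{1} := inferInstance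
  have : AB5OfSize.{0, 1} AddCommGrpCat.{1} := AB5OfSize_of_univLE AddCommGrpCat.{1}
  have := lan_preservesFiniteLimits AddCommGrpCat.{1} (eps X)
  exact Functor.sheafPullbackConstruction.preservesFiniteLimits (eps X) AddCommGrpCat.{1}
    X.smallEtaleTopology (Cl.topology (Pts X))

end Groth.Agent.AnLib
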