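import Groth.Agent.AnLib.Chart
import Groth.Prelude.Def_AnEps
import Mathlib.AlgebraicGeometry.Morphisms.Etale
import Mathlib.Analysis.Calculus.InverseFunctionTheorem.FDeriv
import Mathlib.Analysis.Calculus.FDeriv.Pi
import Mathlib.Analysis.Calculus.FDeriv.Mul
import Mathlib.LinearAlgebra.Matrix.NonsingularInverse

/-! Étale morphisms induce local homeomorphisms on ℂ-points. -/

set_option autoImplicit false
set_option backward.isDefEq.respectTransparency.types false

open AlgebraicGeometry CategoryTheory TopologicalSpace Opposite Topology MvPolynomial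

noncomputable section

namespace Groth.Agent.AnLib

open An

/-- Polynomial functions of two groups of variables are strictly differentiable, with the partial
derivatives in the second group given by `pderiv`. -/
theorem exists_deriv {m : ℕ} {ι : Type*} [Fintype ι]
    (P : MvPolynomial ι (MvPolynomial (Fin m) ℂ)) (p : (Fin m → ℂ) × (ι → ℂ)) :
    ∃ L : ((Fin m → ℂ) × (ι → ℂ)) →L[ℂ] ℂ,
      HasStrictFDerivAt (fun q : (Fin m → ℂ) × (ι → ℂ) => eval₂Hom (eval q.1) q.2 P) L p ∧
      ∀ b, L (0, b) = ∑ i, eval₂Hom (eval p.1) p.2 (pderiv i P) * b i := by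
  classical
  induction P using MvPolynomial.induction_on with
  | C a =>
    have h : ∃ L : ((Fin m → ℂ) × (ι → ℂ)) →L[ℂ] ℂ,
        HasStrictFDerivAt (fun q : (Fin m → ℂ) × (ι → ℂ) => eval q.1 a) L p ∧ ∀ b, L (0, b) = 0 := by
      induction a using MvPolynomial.induction_on with
      | C c => exact ⟨0, by simpa using hasStrictFDerivAt_const c p, fun b => rfl⟩
      | add a b ha hb =>
        obtain ⟨L₁, h₁, h₁'⟩ := ha
        obtain ⟨L₂, h₂, h₂'⟩ := hb
        exact ⟨L₁ + L₂, by simpa only [map_add] using h₁.fun_add h₂, fun b => by simp [h₁', h₂']⟩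
      | mul_X a j ha =>
        obtain ⟨L₁, h₁, h₁'⟩ := ha
        have hj : HasStrictFDerivAt (fun q : (Fin m → ℂ) × (ι → ℂ) => q.1 j)
            ((ContinuousLinearMap.proj j).comp (ContinuousLinearMap.fst ℂ (Fin m → ℂ) (ι → ℂ))) p :=
          ((ContinuousLinearMap.proj (R := ℂ) (φ := fun _ : Fin m => ℂ) j).comp
            (ContinuousLinearMap.fst ℂ (Fin m → ℂ) (ι → ℂ))).hasStrictFDerivAt
        exact ⟨_, by simpa only [map_mul, eval_X] using h₁.fun_mul hj, fun b => by simp [h₁']⟩
    obtain ⟨L, h₁, h₂⟩ := h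
    exact ⟨L, by simpa using h₁, fun b => by simp [h₂]⟩
  | add P Q hP hQ =>
    obtain ⟨L₁, h₁, h₁'⟩ := hP
    obtain ⟨L₂, h₂, h₂'⟩ := hQ
    exact ⟨L₁ + L₂, by simpa only [map_add] using h₁.fun_add h₂,
      fun b => by simp [h₁', h₂', add_mul, Finset.sum_add_distrib]⟩
  | mul_X P i hP =>
    obtain ⟨L₁, h₁, h₁'⟩ := hP
    have hi : HasStrictFDerivAt (fun q : (Fin m → ℂ) × (ι → ℂ) => q.2 i)
        ((ContinuousLinearMap.proj i).comp (ContinuousLinearMap.snd ℂ (Fin m → ℂ) (ι → ℂ))) p :=
      ((ContinuousLinearMap.proj (R := ℂ) (φ := fun _ : ι => ℂ) i).comp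
        (ContinuousLinearMap.snd ℂ (Fin m → ℂ) (ι → ℂ))).hasStrictFDerivAt
    refine ⟨_, by simpa only [map_mul, eval₂Hom_X'] using h₁.fun_mul hi, fun b => ?_⟩
    have key : ∀ x, eval₂Hom (eval p.1) p.2 (pderiv x (P * X i)) * b x =
        p.2 i * (eval₂Hom (eval p.1) p.2 (pderiv x P) * b x) +
          (if i = x then eval₂Hom (eval p.1) p.2 P * b x else 0) := by
      intro x
      rw [pderiv_mul, map_add, map_mul, map_mul, eval₂Hom_X']
      by_cases h : i = x
      · subst h; rw [pderiv_X_self, map_one, if_pos rfl]; ring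
      · rw [pderiv_X_of_ne h, map_zero, if_neg h]; ring
    simp only [key, Finset.sum_add_distrib, ← Finset.mul_sum, Finset.sum_ite_eq, Finset.mem_univ, if_true,
      ← h₁']
    simp
    ring

variable {U V : Scheme.{0}} [U.Over SC] [V.Over SC]

theorem strHom_comp (g : U ⟶ V) [g.IsOver SC] : g.appTop.hom.comp (strHom V) = strHom U := by
  simp only [strHom]
  rw [← RingHom.comp_assoc, ← CommRingCat.hom_comp, ← Scheme.Hom.comp_appTop, comp_over g SC]

theorem isLocalHomeomorph_of_standardSmooth [IsAffine U] [IsAffine V] [LocallyOfFiniteType (V ↘ SC)]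
    (g : U ⟶ V) [g.IsOver SC]
    (hg : RingHom.IsStandardSmoothOfRelativeDimension 0 g.appTop.hom) :
    IsLocalHomeomorph (Pts.map g) := by
  classical
  let _ : Algebra Γ(V, ⊤) Γ(U, ⊤) := g.appTop.hom.toAlgebra
  have : Algebra.IsStandardSmoothOfRelativeDimension 0 Γ(V, ⊤) Γ(U, ⊤) := hg
  obtain ⟨ι, σ, _, _, P, hP⟩ :=
    Algebra.IsStandardSmoothOfRelativeDimension.out (n := 0) (R := Γ(V, ⊤)) (S := Γ(U, ⊤))
  have : Fintype ι := Fintype.ofFinite ι
  have : Fintype σ := Fintype.ofFinite σ
  have hmap : Function.Bijective P.map := by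
    refine (Nat.bijective_iff_injective_and_card P.map).2 ⟨P.map_inj, le_antisymm
      (Nat.card_le_card_of_injective _ P.map_inj) (Nat.sub_eq_zero_iff_le.1 hP)⟩
  let τ := Equiv.ofBijective _ hmap
  obtain ⟨m, s, hs⟩ := exists_surjective_eval₂ (X := V)
  let lift : MvPolynomial ι (MvPolynomial (Fin m) ℂ) →+* MvPolynomial ι Γ(V, ⊤) :=
    MvPolynomial.map (eval₂Hom (strHom V) s)
  have hlift : Function.Surjective lift := MvPolynomial.map_surjective _ hs
  choose R hR using fun l : σ => hlift (P.relation l)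
  -- the embedding
  let e : Pts U → (Fin m → ℂ) × (ι → ℂ) := fun u => (coords s (Pts.map g u), fun i => u.evTop (P.val i))
  let N := Nat.card (Fin m ⊕ ι)
  let eq : Fin N ≃ Fin m ⊕ ι := (Finite.equivFin _).symm
  let s' : Fin N → Γ(U, ⊤) := fun k => Sum.elim (fun a => g.appTop (s a)) P.val (eq k)
  have hs' : Function.Surjective (eval₂Hom (strHom U) s') := by
    rw [← RingHom.range_eq_top, eq_top_iff]
    intro b _
    obtain ⟨F, rfl⟩ := P.aeval_val_surjective b
    induction F using MvPolynomial.induction_on with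
    | C a =>
      obtain ⟨A, rfl⟩ := hs a
      rw [aeval_C]
      clear *- hs
      induction A using MvPolynomial.induction_on with
      | C c =>
        refine ⟨C c, ?_⟩
        rw [eval₂Hom_C, eval₂Hom_C, ← strHom_comp g]
        rfl
      | add a b ha hb => rw [map_add, map_add]; exact add_mem ha hb
      | mul_X a j ha =>
        rw [map_mul, map_mul]
        refine mul_mem ha ⟨X (eq.symm (Sum.inl j)), ?_⟩
        simp [s']
        rfl
    | add p q hp hq => rw [map_add]; exact add_mem (hp trivial) (hq trivial)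
    | mul_X p i hp =>
      rw [map_mul]
      refine mul_mem (hp trivial) ⟨X (eq.symm (Sum.inr i)), ?_⟩
      simp [s']
  have hce := isClosedEmbedding_coords s' hs'
  let H : (Fin m → ℂ) × (ι → ℂ) → (Fin N → ℂ) := fun q k => Sum.elim q.1 q.2 (eq k)
  have hH : H ∘ e = coords s' := by
    funext u k
    simp only [H, e, Function.comp_apply, coords, s']
    cases eq k with
    | inl a => exact evTop_map g u (s a)
    | inr a => rfl
  have hHc : Continuous H := continuous_pi fun k => by
    cases h : eq k with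
    | inl a => simp only [H, h, Sum.elim_inl]; exact (continuous_apply a).comp continuous_fst
    | inr a => simp only [H, h, Sum.elim_inr]; exact (continuous_apply a).comp continuous_snd
  have hec : Continuous e := by
    refine ((continuous_coords s).comp (Pts.continuous_map g)).prodMk (continuous_pi fun i => ?_)
    exact (continuous_apply (0 : Fin 1)).comp (continuous_coords (n := 1) fun _ => P.val i)
  have hei : IsInducing e := IsInducing.of_comp hec hHc (hH ▸ hce.isInducing)
  have heinj : Function.Injective e := fun u u' h => hce.injective (by rw [← hH]; exact congrArg H h)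
  -- equations
  have heval : ∀ (v : Pts V) (z : ι → ℂ) (F : MvPolynomial ι (MvPolynomial (Fin m) ℂ)),
      eval₂Hom (evalHom v ⊤ (Opens.mem_top _)) z (lift F) = eval₂Hom (eval (coords s v)) z F := by
    intro v z F
    show eval₂Hom _ z (MvPolynomial.map _ F) = _
    rw [eval₂Hom_map_hom]
    congr 2
    exact RingHom.ext fun A => evTop_eval₂ s v A
  have hcomp : ∀ (u : Pts U) (G : MvPolynomial ι Γ(V, ⊤)),
      eval₂Hom (evalHom (Pts.map g u) ⊤ (Opens.mem_top _)) (e u).2 G = u.evTop (aeval P.val G) := by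
    intro u G
    refine RingHom.congr_fun (f := eval₂Hom _ (e u).2)
      (g := (evalHom u ⊤ (Opens.mem_top _)).comp (aeval P.val).toRingHom) ?_ G
    refine MvPolynomial.ringHom_ext (fun a => ?_) (fun i => by simp [e]; rfl)
    simp only [eval₂Hom_C, RingHom.comp_apply, AlgHom.toRingHom_eq_coe, AlgHom.coe_toRingHom, aeval_C]
    exact evTop_map g u a
  let Φ : (Fin m → ℂ) × (ι → ℂ) → (Fin m → ℂ) × (ι → ℂ) := fun q =>
    (q.1, fun i => eval₂Hom (eval q.1) q.2 (R (τ.symm i)))
  have hΦe : ∀ u, Φ (e u) = (coords s (Pts.map g u), 0) := by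
    intro u
    refine Prod.ext rfl (funext fun i => ?_)
    show eval₂Hom (eval (coords s (Pts.map g u))) (e u).2 (R (τ.symm i)) = 0
    rw [← heval, hR, hcomp]
    erw [P.aeval_val_relation]
    exact map_zero (evalHom u ⊤ (Opens.mem_top _))
  have hexists : ∀ (v : Pts V) (z : ι → ℂ),
      (∀ l, eval₂Hom (eval (coords s v)) z (R l) = 0) → ∃ u, Pts.map g u = v ∧ (e u).2 = z := by
    intro v z hz
    let χ := eval₂Hom (evalHom v ⊤ (Opens.mem_top _)) z
    have hker : RingHom.ker (aeval P.val : MvPolynomial ι Γ(V, ⊤) →ₐ[Γ(V, ⊤)] Γ(U, ⊤)).toRingHom ≤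
        RingHom.ker χ := by
      refine le_trans (le_of_eq ?_) (Ideal.span_le.2 ?_ : Ideal.span (Set.range P.relation) ≤ _)
      · rw [P.span_range_relation_eq_ker, P.ker_eq_ker_aeval_val]; rfl
      · rintro _ ⟨l, rfl⟩
        show χ (P.relation l) = 0
        rw [← hR, heval, hz]
    let φ : Γ(U, ⊤) →+* ℂ := RingHom.liftOfSurjective
      (aeval P.val : MvPolynomial ι Γ(V, ⊤) →ₐ[Γ(V, ⊤)] Γ(U, ⊤)).toRingHom P.aeval_val_surjective ⟨χ, hker⟩
    have hφ : ∀ G, φ (aeval P.val G) = χ G := RingHom.liftOfRightInverse_comp_apply _ _ _ _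
    have hφC : ∀ a, φ (g.appTop a) = v.evTop a := fun a => by
      rw [show g.appTop a = aeval P.val (C a : MvPolynomial ι Γ(V, ⊤)) from (aeval_C _ a).symm, hφ]
      exact eval₂Hom_C _ _ a
    obtain ⟨u, hu⟩ := exists_evTop_eq φ (fun c => by
      rw [← strHom_comp g, RingHom.comp_apply, hφC]; exact evTop_strHom v c)
    refine ⟨u, ext_of_evTop fun a => ?_, funext fun i => ?_⟩
    · rw [evTop_map, hu, hφC]
    · show u.evTop (P.val i) = z i
      rw [hu, show P.val i = aeval P.val (X i : MvPolynomial ι Γ(V, ⊤)) from (aeval_X _ i).symm, hφ]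
      exact eval₂Hom_X' _ _ i
  -- the inverse function theorem
  rw [isLocalHomeomorph_iff_isOpenEmbedding_restrict]
  intro u₀
  have hderiv : ∃ L : ((Fin m → ℂ) × (ι → ℂ)) →L[ℂ] ((Fin m → ℂ) × (ι → ℂ)),
      HasStrictFDerivAt Φ L (e u₀) ∧ Function.Injective L := by
    choose L hL hL' using fun i => exists_deriv (R (τ.symm i)) (e u₀)
    refine ⟨(ContinuousLinearMap.fst ℂ (Fin m → ℂ) (ι → ℂ)).prod (ContinuousLinearMap.pi L),
      (ContinuousLinearMap.fst ℂ (Fin m → ℂ) (ι → ℂ)).hasStrictFDerivAt.prodMk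
        (hasStrictFDerivAt_pi.2 hL), ?_⟩
    refine (injective_iff_map_eq_zero _).2 fun ⟨a, b⟩ h => ?_
    obtain ⟨ha, hb⟩ := Prod.ext_iff.1 h
    simp only [ContinuousLinearMap.prod_apply, ContinuousLinearMap.coe_fst'] at ha hb
    have ha' : a = 0 := ha
    subst ha'
    let M : Matrix σ σ ℂ := (P.jacobiMatrix.map fun G => u₀.evTop (aeval P.val G)).transpose
    have hM : IsUnit M.det := by
      rw [Matrix.det_transpose]
      have h1 := P.jacobian_isUnit
      rw [P.jacobian_eq_jacobiMatrix_det] at h1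
      have h2 := h1.map (evalHom u₀ ⊤ (Opens.mem_top _))
      rw [P.algebraMap_apply] at h2
      have h3 := RingHom.map_det ((evalHom u₀ ⊤ (Opens.mem_top _)).comp (aeval P.val).toRingHom) P.jacobiMatrix
      exact h3 ▸ h2
    have hMb : M.mulVec (fun l => b (τ l)) = 0 := by
      funext k
      have := congrFun hb (τ k)
      rw [ContinuousLinearMap.pi_apply, hL', Equiv.symm_apply_apply] at this
      refine Eq.trans ?_ this
      refine (Finset.sum_congr rfl fun l _ => ?_).trans (Equiv.sum_comp τ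
        (fun i => eval₂Hom (eval (e u₀).1) (e u₀).2 (pderiv i (R k)) * b i))
      show u₀.evTop (aeval P.val (P.jacobiMatrix l k)) * b (τ l) =
        eval₂Hom (eval (e u₀).1) (e u₀).2 (pderiv (P.map l) (R k)) * b (τ l)
      rw [P.jacobiMatrix_apply, ← hR]
      rw [show pderiv (P.map l) (lift (R k)) = lift (pderiv (P.map l) (R k)) from MvPolynomial.pderiv_map]
      rw [← hcomp, heval]
    have hb0 := Matrix.eq_zero_of_mulVec_eq_zero hM.ne_zero hMb
    refine Prod.ext rfl (funext fun i => ?_)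
    have := congrFun hb0 (τ.symm i)
    rwa [Equiv.apply_symm_apply] at this
  obtain ⟨L, hL, hLi⟩ := hderiv
  let Le : ((Fin m → ℂ) × (ι → ℂ)) ≃L[ℂ] ((Fin m → ℂ) × (ι → ℂ)) :=
    (LinearEquiv.ofInjectiveEndo L.toLinearMap hLi).toContinuousLinearEquiv
  have hL' : HasStrictFDerivAt Φ (Le : ((Fin m → ℂ) × (ι → ℂ)) →L[ℂ] _) (e u₀) := by
    have : (Le : ((Fin m → ℂ) × (ι → ℂ)) →L[ℂ] _) = L := ContinuousLinearMap.ext fun q => rfl
    rwa [this]
  let φ := hL'.toOpenPartialHomeomorph Φ
  let S : Set (Pts U) := e ⁻¹' φ.source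
  have hSo : IsOpen S := φ.open_source.preimage hec
  refine ⟨S, hSo.mem_nhds hL'.mem_toOpenPartialHomeomorph_source, ?_⟩
  let W : Set (Pts V) := (fun v => (coords s v, (0 : ι → ℂ))) ⁻¹' φ.target
  have hcv : Continuous fun v : Pts V => (coords s v, (0 : ι → ℂ)) :=
    (continuous_coords s).prodMk continuous_const
  have hW : IsOpen W := φ.open_target.preimage hcv
  have hmem : ∀ u : S, Pts.map g u.1 ∈ W := fun u => by
    show (coords s (Pts.map g u.1), (0 : ι → ℂ)) ∈ φ.target
    rw [← hΦe]
    exact φ.map_source u.2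
  have hsymm : ∀ u : S, φ.symm (coords s (Pts.map g u.1), 0) = e u.1 := fun u => by
    rw [← hΦe]
    exact φ.left_inv u.2
  refine ⟨⟨?_, ?_⟩, ?_⟩
  · let k : S → W := fun u => ⟨Pts.map g u.1, hmem u⟩
    have hkc : Continuous k := ((Pts.continuous_map g).comp continuous_subtype_val).subtype_mk _
    let G : W → (Fin m → ℂ) × (ι → ℂ) := fun v => φ.symm (coords s v.1, 0)
    have hGc : Continuous G := φ.continuousOn_symm.comp_continuous (hcv.comp continuous_subtype_val) fun v => v.2
    have hk : IsInducing k := by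
      refine IsInducing.of_comp hkc hGc ?_
      have : G ∘ k = e ∘ Subtype.val := funext hsymm
      rw [this]
      exact hei.comp IsInducing.subtypeVal
    exact IsInducing.subtypeVal.comp hk
  · intro u u' h
    have h' : Pts.map g u.1 = Pts.map g u'.1 := h
    exact Subtype.ext (heinj (by rw [← hsymm u, ← hsymm u', h']))
  · have : Set.range (S.domRestrict (Pts.map g)) = W := by
      refine Set.Subset.antisymm (Set.range_subset_iff.2 hmem) fun v hv => ?_
      let q := φ.symm (coords s v, 0)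
      have hq : q ∈ φ.source := φ.map_target hv
      have hΦq : Φ q = (coords s v, 0) := φ.right_inv hv
      obtain ⟨hq1, hq2⟩ := Prod.ext_iff.1 hΦq
      have hq1' : q.1 = coords s v := hq1
      obtain ⟨u, hu, hue⟩ := hexists v q.2 fun l => by
        have := congrFun hq2 (τ l)
        simp only [Φ, Equiv.symm_apply_apply, hq1'] at this
        exact this
      have he : e u = q := Prod.ext (by rw [hq1', ← hu]) hue
      exact ⟨⟨u, show e u ∈ φ.source by rw [he]; exact hq⟩, hu⟩
    rw [this]; exact hW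

theorem etaleLH : An.EtaleLH := by
  intro X Y _ _ _ f _ _
  rw [isLocalHomeomorph_iff_isOpenEmbedding_restrict]
  intro x
  obtain ⟨V, hV, U, hU, hxU, e, hsm⟩ :=
    SmoothOfRelativeDimension.exists_isStandardSmoothOfRelativeDimension (n := 0) (f := f) x.pt
  let g := f.resLE V U e
  have : g.IsOver SC := ⟨by
    show f.resLE V U e ≫ V.ι ≫ (Y ↘ SC) = U.ι ≫ (X ↘ SC)
    rw [Scheme.Hom.resLE_comp_ι_assoc, comp_over f SC]⟩
  have : IsAffine U.toScheme := hU
  have : IsAffine V.toScheme := hV
  have : LocallyOfFiniteType (V.toScheme ↘ SC) := inferInstanceAs (LocallyOfFiniteType (V.ι ≫ (Y ↘ SC)))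
  have hg : RingHom.IsStandardSmoothOfRelativeDimension 0 g.appTop.hom := by
    show RingHom.IsStandardSmoothOfRelativeDimension 0 ((f.resLE V U e).app ⊤).hom
    rw [Scheme.Hom.resLE_app_top]
    have hR := RingHom.isStandardSmoothOfRelativeDimension_respectsIso (n := 0)
    exact (hR.cancel_left_isIso V.topIso.hom (f.appLE V U e ≫ U.topIso.inv)).2
      ((hR.cancel_right_isIso (f.appLE V U e) U.topIso.inv).2 hsm)
  have hl := isLocalHomeomorph_of_standardSmooth g hg
  have hcompeq : Pts.map f ∘ Pts.map U.ι = Pts.map V.ι ∘ Pts.map g := funext fun u => by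
    refine Subtype.ext ?_
    show (u.1 ≫ U.ι) ≫ f = (u.1 ≫ g) ≫ V.ι
    rw [Category.assoc, Category.assoc, Scheme.Hom.resLE_comp_ι]
  have hj := isOpenEmbedding_map U.ι
  have hlh : IsLocalHomeomorph (Pts.map f ∘ Pts.map U.ι) :=
    hcompeq ▸ (isOpenEmbedding_map V.ι).isLocalHomeomorph.comp hl
  obtain ⟨u, rfl⟩ := exists_map_eq_of_isOpenImmersion U.ι x (by rw [Scheme.Opens.range_ι]; exact hxU)
  obtain ⟨S, hS, hSe⟩ := isLocalHomeomorph_iff_isOpenEmbedding_restrict.1 hlh u
  refine ⟨Pts.map U.ι '' S, hj.isOpenMap.image_mem_nhds hS, ?_⟩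
  let h := hj.isEmbedding.homeomorphImage S
  have : (Pts.map U.ι '' S).domRestrict (Pts.map f) ∘ h = S.domRestrict (Pts.map f ∘ Pts.map U.ι) := rfl
  have h2 := hSe.comp h.symm.isOpenEmbedding
  rw [← this, Function.comp_assoc, Homeomorph.self_comp_symm] at h2
  exact h2

end Groth.Agent.AnLib
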