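import Groth.Agent.AnLib.Constructible
import Groth.Agent.AnLib.Pullback
import Mathlib.AlgebraicGeometry.Morphisms.FinitePresentation
import Mathlib.AlgebraicGeometry.Morphisms.UniversallyInjective
import Mathlib.Topology.SeparatedMap

/-! Properties of a morphism read on ℂ-points. -/

open AlgebraicGeometry CategoryTheory CategoryTheory.Limits TopologicalSpace Topology

noncomputable section

namespace Groth.Agent.AnLib

open An

variable {X Y : Scheme.{0}} [X.Over SC] [Y.Over SC] [LocallyOfFiniteType (X ↘ SC)]
  [LocallyOfFiniteType (Y ↘ SC)] (f : X ⟶ Y) [f.IsOver SC]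

omit [LocallyOfFiniteType (X ↘ SC)] in
theorem isLocallyConstructible_of_isLocallyClosed [LocallyOfFiniteType (X ↘ SC)] {Z : Set X} (hZ : IsLocallyClosed Z) :
    IsLocallyConstructible Z := by
  intro x
  have : IsLocallyNoetherian X := LocallyOfFiniteType.isLocallyNoetherian (X ↘ SC)
  obtain ⟨W, hW, hxW, -⟩ := exists_isAffineOpen_mem_and_subset (x := x) (U := (⊤ : X.Opens)) trivial
  have : IsAffine W.toScheme := hW
  have : AlgebraicGeometry.IsNoetherian W.toScheme := { }
  refine ⟨W, W.2.mem_nhds hxW, W.2, ?_⟩
  obtain ⟨O, C, hO, hC, rfl⟩ := hZ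
  have h1 : IsConstructible (W.ι ⁻¹' O) :=
    (NoetherianSpace.isCompact _).isConstructible (hO.preimage W.ι.continuous)
  have h2 : IsConstructible (W.ι ⁻¹' C) :=
    isConstructible_compl.1 ((NoetherianSpace.isCompact _).isConstructible (hC.preimage W.ι.continuous).isOpen_compl)
  exact h1.inter h2

theorem surjective_map (h : Function.Surjective f) : Function.Surjective (Pts.map f) := by
  intro y
  have hne : (f ⁻¹' {y.pt}).Nonempty := (h y.pt).imp fun _ hz => hz
  obtain ⟨x, hx⟩ := exists_pt_mem ((isClosed_pt y).preimage f.continuous).isLocallyClosed hne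
  exact ⟨x, pt_injective (by rw [Pts.pt_map]; exact hx)⟩

omit [LocallyOfFiniteType (Y ↘ SC)] in
theorem isLocallyConstructible_range [QuasiCompact f] [LocallyOfFiniteType (Y ↘ SC)] : IsLocallyConstructible (Set.range f) := by
  have : IsLocallyNoetherian Y := LocallyOfFiniteType.isLocallyNoetherian (Y ↘ SC)
  have : LocallyOfFiniteType f := by
    have : LocallyOfFiniteType (f ≫ (Y ↘ SC)) := by rw [comp_over f SC]; infer_instance
    exact locallyOfFiniteType_of_comp f (Y ↘ SC)
  have : LocallyOfFinitePresentation f := LocallyOfFinitePresentation.iff_locallyOfFiniteType.2 this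
  rw [← Set.image_univ]
  exact f.isLocallyConstructible_image IsConstructible.univ.isLocallyConstructible

theorem range_map_eq : Set.range (Pts.map f) = Pts.pt ⁻¹' Set.range f := by
  refine Set.ext fun y => ⟨by rintro ⟨x, rfl⟩; exact ⟨x.pt, (Pts.pt_map f x).symm⟩, ?_⟩
  intro hy
  obtain ⟨x, hx⟩ := exists_pt_mem ((isClosed_pt y).preimage f.continuous).isLocallyClosed (hy.imp fun _ hz => hz)
  exact ⟨x, pt_injective (by rw [Pts.pt_map]; exact hx)⟩

theorem surjective_iff [QuasiCompact f] : Function.Surjective f ↔ Function.Surjective (Pts.map f) := by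
  refine ⟨surjective_map f, fun h => ?_⟩
  intro y
  refine (subset_iff IsConstructible.univ.isLocallyConstructible (isLocallyConstructible_range f)).1 ?_ (Set.mem_univ y)
  rw [← range_map_eq, h.range_eq]
  exact Set.subset_univ _

theorem denseRange_iff [QuasiCompact f] : DenseRange f ↔ DenseRange (Pts.map f) := by
  rw [DenseRange, DenseRange, range_map_eq]
  exact dense_iff (isLocallyConstructible_range f)

/-- ℂ-points of the diagonal. -/
theorem range_map_diagonal :
    Pts.pt ⁻¹' Set.range (pullback.diagonal f) =
      {z : Pts (pullback f f) | Pts.map (pullback.fst f f) z = Pts.map (pullback.snd f f) z} := by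
  have : (pullback.diagonal f).IsOver SC := ⟨by
    show pullback.diagonal f ≫ pullback.fst f f ≫ (X ↘ SC) = _
    rw [pullback.diagonal_fst_assoc]⟩
  ext z
  have hP : LocallyOfFiniteType (pullback f f ↘ SC) := by
    have : LocallyOfFiniteType f := by
      have : LocallyOfFiniteType (f ≫ (Y ↘ SC)) := by rw [comp_over f SC]; infer_instance
      exact locallyOfFiniteType_of_comp f (Y ↘ SC)
    exact inferInstanceAs (LocallyOfFiniteType (pullback.fst f f ≫ (X ↘ SC)))
  rw [← range_map_eq (pullback.diagonal f)]
  constructor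
  · rintro ⟨x, rfl⟩
    exact Subtype.ext (by simp)
  · intro h
    refine ⟨Pts.map (pullback.fst f f) z, Subtype.ext ?_⟩
    have h' := congrArg Subtype.val h
    simp only [Pts.map_val] at h' ⊢
    apply pullback.hom_ext
    · simp
    · simp [h']

theorem isLocallyConstructible_range_diagonal :
    IsLocallyConstructible (Set.range (pullback.diagonal f)) := by
  have : LocallyOfFiniteType f := by
    have : LocallyOfFiniteType (f ≫ (Y ↘ SC)) := by rw [comp_over f SC]; infer_instance
    exact locallyOfFiniteType_of_comp f (Y ↘ SC)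
  have : LocallyOfFiniteType (pullback f f ↘ SC) := inferInstanceAs (LocallyOfFiniteType (pullback.fst f f ≫ (X ↘ SC)))
  exact isLocallyConstructible_of_isLocallyClosed (pullback.diagonal f).isLocallyClosed_range

theorem injective_iff : Function.Injective f ↔ Function.Injective (Pts.map f) := by
  refine ⟨fun h a b hab => pt_injective (h ?_), fun h => ?_⟩
  · rw [← Pts.pt_map, ← Pts.pt_map, hab]
  · have hf : LocallyOfFiniteType f := by
      have : LocallyOfFiniteType (f ≫ (Y ↘ SC)) := by rw [comp_over f SC]; infer_instance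
      exact locallyOfFiniteType_of_comp f (Y ↘ SC)
    have : LocallyOfFiniteType (pullback f f ↘ SC) := inferInstanceAs (LocallyOfFiniteType (pullback.fst f f ≫ (X ↘ SC)))
    have hs : (Set.univ : Set ↥(pullback f f)) ⊆ Set.range (pullback.diagonal f) := by
      refine (subset_iff IsConstructible.univ.isLocallyConstructible (isLocallyConstructible_range_diagonal f)).1 ?_
      rw [range_map_diagonal]
      exact fun z _ => h (Pts.map_pullback_condition f f z)
    have : Surjective (pullback.diagonal f) := ⟨fun z => hs (Set.mem_univ z)⟩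
    have : UniversallyInjective f := (UniversallyInjective.iff_diagonal f).2 this
    exact f.injective

/-- The comparison map to the fibre product of the spaces of points is a homeomorphism. -/
theorem isHomeomorph_prod {S : Scheme.{0}} [S.Over SC] (u : X ⟶ S) (v : Y ⟶ S) [u.IsOver SC] [v.IsOver SC] :
    IsHomeomorph (fun z : Pts (pullback u v) =>
      (⟨(Pts.map (pullback.fst u v) z, Pts.map (pullback.snd u v) z), Pts.map_pullback_condition u v z⟩ :
        {q : Pts X × Pts Y // Pts.map u q.1 = Pts.map v q.2})) := by
  rw [isHomeomorph_iff_isEmbedding_surjective]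
  refine ⟨⟨IsInducing.of_comp (((Pts.continuous_map _).prodMk (Pts.continuous_map _)).subtype_mk _)
    continuous_subtype_val (isInducing_prod u v), fun a b h => ?_⟩, ?_⟩
  · have h' := congrArg Subtype.val h
    exact Subtype.ext (pullback.hom_ext (congrArg Subtype.val (Prod.ext_iff.1 h').1) (congrArg Subtype.val (Prod.ext_iff.1 h').2))
  · rintro ⟨⟨a, b⟩, hab⟩
    refine ⟨⟨pullback.lift a.1 b.1 (congrArg Subtype.val hab), ?_⟩, ?_⟩
    · show _ ≫ pullback.fst u v ≫ (X ↘ SC) = _
      exact (Category.assoc _ _ _).symm.trans ((congrArg (· ≫ (X ↘ SC)) (pullback.lift_fst _ _ _)).trans a.2)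
    · exact Subtype.ext (Prod.ext (Subtype.ext (pullback.lift_fst _ _ _)) (Subtype.ext (pullback.lift_snd _ _ _)))

theorem isSeparated_iff : IsSeparated f ↔ IsSeparatedMap (Pts.map f) := by
  have hf : LocallyOfFiniteType f := by
    have : LocallyOfFiniteType (f ≫ (Y ↘ SC)) := by rw [comp_over f SC]; infer_instance
    exact locallyOfFiniteType_of_comp f (Y ↘ SC)
  have : LocallyOfFiniteType (pullback f f ↘ SC) := inferInstanceAs (LocallyOfFiniteType (pullback.fst f f ≫ (X ↘ SC)))
  rw [isSeparatedMap_iff_isClosed_diagonal]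
  have h1 : IsSeparated f ↔ IsClosed (Set.range (pullback.diagonal f)) :=
    ⟨fun _ => (pullback.diagonal f).isClosedEmbedding.isClosed_range,
      fun h => ⟨IsClosedImmersion.of_isPreimmersion _ h⟩⟩
  rw [h1, isClosed_iff (isLocallyConstructible_range_diagonal f), range_map_diagonal]
  let e := (isHomeomorph_prod f f).homeomorph
  have h2 : {z : Pts (pullback f f) | Pts.map (pullback.fst f f) z = Pts.map (pullback.snd f f) z} =
      e ⁻¹' (Pts.map f).pullbackDiagonal := rfl
  rw [h2, e.isClosed_preimage]

theorem t2Space_iff : IsSeparated (X ↘ SC) ↔ T2Space (Pts X) := by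
  letI : SC.Over SC := ⟨𝟙 _⟩
  have : (X ↘ SC).IsOver SC := ⟨Category.comp_id _⟩
  have : LocallyOfFiniteType (SC ↘ SC) := inferInstanceAs (LocallyOfFiniteType (𝟙 SC))
  have hsub : ∀ a : Pts SC, a = ⟨𝟙 SC, Category.comp_id _⟩ := fun a =>
    Subtype.ext ((Category.comp_id _).symm.trans a.2)
  rw [isSeparated_iff, t2space_iff_isSeparatedMap (⟨𝟙 SC, Category.comp_id _⟩ : Pts SC),
    show Pts.map (X ↘ SC) = fun _ => (⟨𝟙 SC, Category.comp_id _⟩ : Pts SC) from funext fun x => hsub _]
  exact Iff.rfl

theorem discreteTopology_iff : DiscreteTopology X ↔ DiscreteTopology (Pts X) := by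
  constructor
  · intro h
    exact DiscreteTopology.of_continuous_injective Pts.continuous_pt pt_injective
  · intro h
    have hcl : ∀ x : X, IsClosed ({x} : Set X) → IsOpen ({x} : Set X) := fun x hx => by
      have hT : IsLocallyConstructible ({x}ᶜ : Set X) := isLocallyConstructible_of_isLocallyClosed hx.isOpen_compl.isLocallyClosed
      have := (isClosed_iff hT).2 (isClosed_discrete _)
      simpa using this.isOpen_compl
    have hU : IsOpen (closedPoints X) := by
      rw [← Set.biUnion_of_singleton (closedPoints X)]
      exact isOpen_biUnion fun x hx => hcl x hx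
    have huniv : closedPoints X = Set.univ := by
      by_contra hne
      obtain ⟨x, hx⟩ := exists_pt_mem hU.isClosed_compl.isLocallyClosed (Set.nonempty_compl.2 hne)
      exact hx (isClosed_pt x)
    exact discreteTopology_iff_isOpen_singleton.2 fun x => hcl x (huniv.ge trivial)

end Groth.Agent.AnLib
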