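import Groth.Prelude.Def_AnEps
import Groth.Agent.AnLib.Morphisms
import Groth.Agent.AnLib.EtaleLocal
import Mathlib.CategoryTheory.Sites.CoverPreserving
import Mathlib.CategoryTheory.Functor.Flat
import Mathlib.CategoryTheory.Limits.Constructions.LimitsOfProductsAndEqualizers
import Mathlib.CategoryTheory.Limits.Constructions.Over.Connected

/-! The comparison functor from the small etale site to the classical site: left exact and cover preserving. -/

open AlgebraicGeometry CategoryTheory CategoryTheory.Limits TopologicalSpace Topology An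

noncomputable section

namespace Groth.Agent.AnLib

set_option backward.isDefEq.respectTransparency.types false

variable (X : Scheme.{0}) [X.Over SC] [LocallyOfFiniteType (X ↘ SC)] [Fact An.EtaleLH]

theorem lft_left (U : X.Etale) : LocallyOfFiniteType (U.left ↘ SC) := by
  have : Etale U.hom := U.prop
  exact inferInstanceAs (LocallyOfFiniteType (U.hom ≫ (X ↘ SC)))

theorem eps_map_toFun {U V : X.Etale} (g : U ⟶ V) (z : Pts U.left) :
    ((eps X).map g).toFun z = Pts.map (X := U.left) (Y := V.left) g.left z := rfl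

theorem preservesTerminal_eps : PreservesLimitsOfShape (Discrete.{0} PEmpty) (eps X) := by
  let T : X.Etale := MorphismProperty.Over.mk ⊤ (𝟙 X) (inferInstanceAs (Etale (𝟙 X)))
  have hT : IsTerminal T := MorphismProperty.Over.mkIdTerminal _ X
  have hb : ∀ y : Pts X, ∃ z : Pts T.left, Pts.map (T.left ↘ X) z = y := fun y =>
    ⟨⟨y.1, by show y.1 ≫ 𝟙 X ≫ (X ↘ SC) = _; rw [Category.id_comp]; exact y.2⟩, Subtype.ext (Category.comp_id _)⟩
  have hi : Function.Injective (Pts.map (T.left ↘ X)) := fun a b h => Subtype.ext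
    ((Category.comp_id a.1).symm.trans ((congrArg Subtype.val h).trans (Category.comp_id b.1)))
  let e := ((Fact.out : EtaleLH) T.left X (T.left ↘ X)).toHomeomorphOfBijective ⟨hi, hb⟩
  have hterm : IsTerminal ((eps X).obj T) := IsTerminal.ofUniqueHom
    (fun A => ⟨fun a => e.symm (A.p a), e.symm.continuous.comp A.lh.continuous, fun a => e.apply_symm_apply _⟩)
    (fun A m => An.Cl.hom_ext (funext fun a => e.injective ((m.over a).trans (e.apply_symm_apply _).symm)))
  have : PreservesLimit (Functor.empty.{0} X.Etale) (eps X) :=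
    preservesLimit_of_preserves_limit_cone hT ((isLimitMapConeEmptyConeEquiv (eps X) T).symm hterm)
  exact preservesLimitsOfShape_pempty_of_preservesTerminal _

theorem isPullback_left {U V Z : X.Etale} (f : U ⟶ Z) (g : V ⟶ Z) :
    IsPullback (pullback.fst f g).left (pullback.snd f g).left f.left g.left :=
  (IsPullback.of_hasPullback f g).map (MorphismProperty.Over.forget _ ⊤ X ⋙ CategoryTheory.Over.forget X)

theorem isPullback_eps {U V Z : X.Etale} (f : U ⟶ Z) (g : V ⟶ Z) :
    IsPullback ((eps X).map (pullback.fst f g)) ((eps X).map (pullback.snd f g)) ((eps X).map f) ((eps X).map g) := by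
  have hw : (eps X).map (pullback.fst f g) ≫ (eps X).map f = (eps X).map (pullback.snd f g) ≫ (eps X).map g := by
    rw [← Functor.map_comp, ← Functor.map_comp, pullback.condition]
  have := lft_left X U
  have := lft_left X V
  have := lft_left X Z
  have hU : f.left.IsOver SC := ⟨by
    show f.left ≫ Z.hom ≫ (X ↘ SC) = U.hom ≫ (X ↘ SC)
    rw [← Category.assoc]; congr 1; exact MorphismProperty.Over.w f⟩
  have hV : g.left.IsOver SC := ⟨by
    show g.left ≫ Z.hom ≫ (X ↘ SC) = V.hom ≫ (X ↘ SC)
    rw [← Category.assoc]; congr 1; exact MorphismProperty.Over.w g⟩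
  let P : X.Etale := pullback f g
  have hP := isPullback_left X f g
  have hq : (pullback.fst f g).left ≫ U.hom = P.hom := MorphismProperty.Over.w (pullback.fst f g)
  have hq2 : (pullback.snd f g).left ≫ V.hom = P.hom := MorphismProperty.Over.w (pullback.snd f g)
  have ho1 : (pullback.fst f g).left.IsOver SC := ⟨by
    show (pullback.fst f g).left ≫ U.hom ≫ (X ↘ SC) = P.hom ≫ (X ↘ SC)
    rw [← Category.assoc, hq]⟩
  have ho2 : (pullback.snd f g).left.IsOver SC := ⟨by
    show (pullback.snd f g).left ≫ V.hom ≫ (X ↘ SC) = P.hom ≫ (X ↘ SC)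
    rw [← Category.assoc, hq2]⟩
  let e := hP.isoPullback
  have he1 : e.hom ≫ pullback.fst f.left g.left = (pullback.fst f g).left := hP.isoPullback_hom_fst
  have he2 : e.hom ≫ pullback.snd f.left g.left = (pullback.snd f g).left := hP.isoPullback_hom_snd
  have heo : e.hom.IsOver SC := ⟨by
    show e.hom ≫ pullback.fst f.left g.left ≫ (U.left ↘ SC) = _
    rw [← Category.assoc, he1]; exact comp_over _ SC⟩
  have heo' : e.inv.IsOver SC := ⟨by rw [Iso.inv_comp_eq]; exact (comp_over e.hom SC).symm⟩
  have hind : IsInducing fun z : Pts P.left =>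
      (Pts.map (X := P.left) (Y := U.left) (pullback.fst f g).left z, Pts.map (X := P.left) (Y := V.left) (pullback.snd f g).left z) := by
    let h : Pts P.left ≃ₜ Pts (Limits.pullback f.left g.left) :=
      { toFun := Pts.map e.hom
        invFun := Pts.map e.inv
        left_inv := fun z => Subtype.ext (by simp)
        right_inv := fun z => Subtype.ext (by simp)
        continuous_toFun := Pts.continuous_map _
        continuous_invFun := Pts.continuous_map _ }
    have e2 : (fun z : Pts P.left =>
      (Pts.map (X := P.left) (Y := U.left) (pullback.fst f g).left z, Pts.map (X := P.left) (Y := V.left) (pullback.snd f g).left z))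
        = (fun z => (Pts.map (pullback.fst f.left g.left) z, Pts.map (pullback.snd f.left g.left) z)) ∘ h :=
      funext fun z => Prod.ext
        (Subtype.ext (show z.1 ≫ _ = (z.1 ≫ e.hom) ≫ _ by rw [Category.assoc, he1]))
        (Subtype.ext (show z.1 ≫ _ = (z.1 ≫ e.hom) ≫ _ by rw [Category.assoc, he2]))
    rw [e2]
    exact (isInducing_prod f.left g.left).comp h.isInducing
  refine IsPullback.of_isLimit' ⟨hw⟩ (PullbackCone.IsLimit.mk _ (fun s => ?_) (fun s => ?_) (fun s => ?_) (fun s m h1 h2 => ?_))
  · have hc : ∀ a : s.pt.E, (s.fst.toFun a).1 ≫ f.left = (s.snd.toFun a).1 ≫ g.left := fun a =>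
      congrArg Subtype.val (congrFun (congrArg An.Cl.Hom.toFun s.condition) a)
    refine ⟨fun a => ⟨hP.lift _ _ (hc a), ?_⟩, ?_, fun a => ?_⟩
    · show hP.lift _ _ (hc a) ≫ P.hom ≫ (X ↘ SC) = _
      rw [← hq, Category.assoc, hP.lift_fst_assoc]
      exact (s.fst.toFun a).2
    · refine hind.continuous_iff.2 ?_
      refine (s.fst.continuous.prodMk s.snd.continuous).congr fun a => Prod.ext ?_ ?_
      · exact Subtype.ext (hP.lift_fst _ _ (hc a)).symm
      · exact Subtype.ext (hP.lift_snd _ _ (hc a)).symm
    · refine Eq.trans ?_ (s.fst.over a)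
      refine Subtype.ext ?_
      show hP.lift _ _ (hc a) ≫ P.hom = (s.fst.toFun a).1 ≫ U.hom
      rw [← hq, hP.lift_fst_assoc]
  · exact An.Cl.hom_ext (funext fun a => Subtype.ext (hP.lift_fst _ _ _))
  · exact An.Cl.hom_ext (funext fun a => Subtype.ext (hP.lift_snd _ _ _))
  · refine An.Cl.hom_ext (funext fun a => Subtype.ext (hP.hom_ext ?_ ?_))
    · exact (congrArg Subtype.val (congrFun (congrArg An.Cl.Hom.toFun h1) a)).trans (hP.lift_fst _ _ _).symm
    · exact (congrArg Subtype.val (congrFun (congrArg An.Cl.Hom.toFun h2) a)).trans (hP.lift_snd _ _ _).symm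

theorem preservesPullbacks_eps : PreservesLimitsOfShape WalkingCospan (eps X) := by
  refine ⟨fun {K} => ?_⟩
  have : PreservesLimit (cospan (K.map WalkingCospan.Hom.inl) (K.map WalkingCospan.Hom.inr)) (eps X) :=
    preservesLimit_of_preserves_limit_cone (pullbackIsPullback _ _)
      ((isLimitMapConePullbackConeEquiv (eps X) pullback.condition).symm (isPullback_eps X _ _).isLimit)
  exact preservesLimit_of_iso_diagram (eps X) (diagramIsoCospan K).symm

theorem preservesFiniteLimits_eps : PreservesFiniteLimits (eps X) :=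
  have := preservesTerminal_eps X
  have := preservesPullbacks_eps X
  preservesFiniteLimits_of_preservesTerminal_and_pullbacks _

theorem representablyFlat_eps : RepresentablyFlat (eps X) :=
  have := preservesFiniteLimits_eps X
  flat_of_preservesFiniteLimits _

theorem coverPreserving_eps : CoverPreserving X.smallEtaleTopology (Cl.topology (Pts X)) (eps X) := by
  refine ⟨fun {U S} hS a => ?_⟩
  obtain ⟨𝒰, _, h𝒰, hle⟩ := (Scheme.mem_smallGrothendieckTopology _ _).1 hS
  obtain ⟨i, u, hu⟩ := ((Scheme.ofArrows_mem_precoverage_iff _).1 𝒰.mem₀).1 (a : Pts U.left).pt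
  obtain ⟨W, φ, hφ, u, hu⟩ : ∃ (W : X.Etale) (φ : W ⟶ U), S φ ∧ ∃ u : W.left, φ.left u = (a : Pts U.left).pt :=
    ⟨(𝒰.X i).asOverProp X (h𝒰 i), Scheme.Hom.asOverProp (𝒰.f i) X, hle _ _ ⟨i⟩, u, hu⟩
  have := lft_left X W
  have := lft_left X U
  have hφo : φ.left.IsOver SC := ⟨by
    show φ.left ≫ U.hom ≫ (X ↘ SC) = W.hom ≫ (X ↘ SC)
    rw [← Category.assoc]; congr 1; exact MorphismProperty.Over.w φ⟩
  obtain ⟨w, hw⟩ := exists_pt_mem (X := W.left) (Z := φ.left ⁻¹' {(a : Pts U.left).pt})
    ((isClosed_pt (X := U.left) a).preimage φ.left.continuous).isLocallyClosed ⟨u, hu⟩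
  have hwa : Pts.map (X := W.left) (Y := U.left) φ.left w = a := pt_injective (by rw [Pts.pt_map]; exact hw)
  have hlh : IsLocalHomeomorph ((eps X).map φ).toFun :=
    IsLocalHomeomorph.of_comp (g := ((eps X).obj U).p)
      (by rw [show ((eps X).obj U).p ∘ ((eps X).map φ).toFun = ((eps X).obj W).p from funext ((eps X).map φ).over]
          exact ((eps X).obj W).lh)
      ((eps X).obj U).lh ((eps X).map φ).continuous
  obtain ⟨N, hN, hNe⟩ := isLocalHomeomorph_iff_isOpenEmbedding_restrict.1 hlh w
  obtain ⟨N', hN'N, hN'o, hwN'⟩ := mem_nhds_iff.1 hN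
  refine ⟨Cl.restrictOpen ((eps X).obj W) N' hN'o, Cl.restrictOpenι _ N' hN'o ≫ (eps X).map φ,
    ⟨W, φ, Cl.restrictOpenι _ N' hN'o, hφ, rfl⟩,
    hNe.comp (IsOpenEmbedding.inclusion hN'N (hN'o.preimage continuous_subtype_val)), ⟨w, hwN'⟩, hwa⟩

theorem epsCont : An.EpsCont X :=
  have := representablyFlat_eps X
  Functor.isContinuous_of_coverPreserving (compatiblePreservingOfFlat _ _) (coverPreserving_eps X)

end Groth.Agent.AnLib
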