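import Groth.Agent.AnLib.Connected
import Mathlib.Analysis.Complex.CoveringMap
import Mathlib.Topology.Homotopy.Lifting
import Mathlib.RingTheory.DedekindDomain.IntegralClosure
import Mathlib.RingTheory.Polynomial.Eisenstein.Basic
import Mathlib.Analysis.SpecialFunctions.Complex.LogDeriv

/-! A nowhere vanishing regular function with a continuous logarithm is constant. -/

open Filter Topology Polynomial
open scoped nonZeroDivisors

noncomputable section

namespace Groth.Agent.AnLib

section Algebra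

attribute [local instance] FractionRing.liftAlgebra

variable {A : Type} [CommRing A] [IsDomain A] [Algebra ℂ A]

theorem irreducible_X_pow_sub_C_X (m : ℕ) (hm : 0 < m) :
    Irreducible ((X ^ m - C (algebraMap ℂ[X] (FractionRing ℂ[X]) X) : (FractionRing ℂ[X])[X])) := by
  have hmon : (X ^ m - C (X : ℂ[X])).Monic := monic_X_pow_sub_C _ hm.ne'
  have hirr : Irreducible (X ^ m - C (X : ℂ[X])) := by
    refine IsEisensteinAt.irreducible (?_ : IsEisensteinAt _ (Ideal.span {(X : ℂ[X])})) ?_ hmon.isPrimitive ?_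
    · refine ⟨?_, fun {j} hj => ?_, ?_⟩
      · rw [hmon.leadingCoeff, Ideal.mem_span_singleton]
        exact fun h => Polynomial.not_isUnit_X (isUnit_of_dvd_one h)
      · rw [natDegree_X_pow_sub_C] at hj
        rw [coeff_sub, coeff_X_pow, if_neg hj.ne, zero_sub, coeff_C]
        split_ifs
        · exact neg_mem (Ideal.subset_span rfl)
        · simp
      · rw [coeff_sub, coeff_X_pow, if_neg hm.ne, zero_sub, coeff_C_zero, Ideal.span_singleton_pow,
          Ideal.mem_span_singleton, dvd_neg]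
        intro h
        have := degree_le_of_dvd h X_ne_zero
        rw [degree_X_pow, degree_X] at this
        norm_cast at this
    · exact (Ideal.span_singleton_prime X_ne_zero).2 prime_X
    · rw [natDegree_X_pow_sub_C]; exact hm
  have := (hmon.irreducible_iff_irreducible_map_fraction_map (K := FractionRing ℂ[X])).1 hirr
  simpa using this

theorem finite_integralClosure_fractionRing {d : ℕ} [Algebra (MvPolynomial (Fin d) ℂ) A]
    [Module.Finite (MvPolynomial (Fin d) ℂ) A] [FaithfulSMul (MvPolynomial (Fin d) ℂ) A] :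
    Module.Finite (MvPolynomial (Fin d) ℂ) (integralClosure (MvPolynomial (Fin d) ℂ) (FractionRing A)) := by
  let P := MvPolynomial (Fin d) ℂ
  let K := FractionRing P
  let L := FractionRing A
  have hK0 : ∀ N : P, N ≠ 0 → algebraMap P K N ≠ 0 := fun N hN =>
    (map_ne_zero_iff _ (IsFractionRing.injective P K)).2 hN
  have hKL : ∀ N : P, algebraMap K L (algebraMap P K N) = algebraMap P L N := fun N =>
    (IsScalarTower.algebraMap_apply P K L N).symm
  have : FiniteDimensional K L := by
    obtain ⟨S, hS⟩ := Module.Finite.fg_top (R := P) (M := A)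
    classical
    refine ⟨⟨S.image (algebraMap A L), top_le_iff.1 ?_⟩⟩
    rw [Finset.coe_image]
    rintro x -
    obtain ⟨b, y, hy, rfl⟩ := IsFractionRing.div_surjective A x
    have hy0 : algebraMap A L y ≠ 0 :=
      (map_ne_zero_iff _ (IsFractionRing.injective A L)).2 (nonZeroDivisors.ne_zero hy)
    obtain ⟨N, y', hN, hy'⟩ := exists_mul_eq_algebraMap (P := P) (nonZeroDivisors.ne_zero hy)
    have hz : algebraMap A L (b * y') ∈ Submodule.span K (algebraMap A L '' (S : Set A)) := by
      have : b * y' ∈ Submodule.span P (S : Set A) := by rw [hS]; trivial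
      generalize b * y' = z at this
      induction this using Submodule.span_induction with
      | mem w hw => exact Submodule.subset_span ⟨w, hw, rfl⟩
      | zero => simp
      | add p q _ _ hp hq => rw [map_add]; exact add_mem hp hq
      | smul r w _ hw =>
        rw [Algebra.smul_def, map_mul, ← IsScalarTower.algebraMap_apply P A L, ← hKL, ← Algebra.smul_def]
        exact Submodule.smul_mem _ _ hw
    rw [← Submodule.smul_mem_iff (Submodule.span K _) (hK0 N hN), Algebra.smul_def, hKL,
      IsScalarTower.algebraMap_apply P A L, ← hy', map_mul, mul_comm (algebraMap A L y), mul_assoc,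
      mul_div_cancel₀ _ hy0, mul_comm, ← map_mul]
    exact hz
  have : CharZero K := charZero_of_injective_algebraMap (IsFractionRing.injective P K)
  exact IsIntegralClosure.finite P K L (integralClosure P L)

/-- An element with roots of every order in the fraction field is a scalar. -/
theorem mem_range_algebraMap_of_forall_root [Algebra.FiniteType ℂ A] (u : A)
    (hu : ∀ m, 0 < m → ∃ f h : A, f ≠ 0 ∧ h ^ m = f ^ m * u) : u ∈ Set.range (algebraMap ℂ A) := by
  by_cases halg : IsAlgebraic ℂ u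
  · have h1 : (minpoly ℂ u).degree = 1 := IsAlgClosed.degree_eq_one_of_irreducible _ (minpoly.irreducible halg.isIntegral)
    exact minpoly.degree_eq_one_iff.1 h1
  exfalso
  obtain ⟨d, g, hginj, hgfin, -, -⟩ := DimLib.exists_normalization (k := ℂ) (A := A)
  algebraize [g.toRingHom]
  let P := MvPolynomial (Fin d) ℂ
  have : Module.Finite P A := hgfin
  have : IsScalarTower ℂ P A := IsScalarTower.of_algebraMap_eq fun x => (g.commutes x).symm
  have : FaithfulSMul P A := (faithfulSMul_iff_algebraMap_injective P A).2 hginj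
  let L := FractionRing A
  let C' := integralClosure P L
  have : Module.Finite P C' := finite_integralClosure_fractionRing
  have : Algebra.FiniteType P C' := inferInstance
  have hft : Algebra.FiniteType ℂ C' := Algebra.FiniteType.trans (S := P) inferInstance this
  obtain ⟨T, hT⟩ := hft.out
  let v : ℂ[X] →ₐ[ℂ] L := Polynomial.aeval (algebraMap A L u)
  have hv : Function.Injective v := by
    intro p q hpq
    by_contra hne
    refine halg ⟨p - q, sub_ne_zero.2 hne, IsFractionRing.injective A L ?_⟩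
    rw [map_zero, ← aeval_algebraMap_apply, map_sub]
    exact sub_eq_zero.2 hpq
  let k := FractionRing ℂ[X]
  letI : Algebra k L := (IsFractionRing.lift (g := v.toRingHom) hv).toAlgebra
  have hkL : ∀ p, algebraMap k L (algebraMap ℂ[X] k p) = v p := fun p => IsFractionRing.lift_algebraMap (g := v.toRingHom) hv p
  have : IsScalarTower ℂ k L := IsScalarTower.of_algebraMap_eq fun c => by
    rw [IsScalarTower.algebraMap_apply ℂ ℂ[X] k, hkL]
    exact (v.commutes c).symm
  let G : Set L := (fun c : C' => (c : L)) '' (T : Set C')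
  let B' := Algebra.adjoin k G
  have hC : ∀ c : C', (c : L) ∈ B' := by
    intro c
    have : c ∈ Algebra.adjoin ℂ (T : Set C') := by rw [hT]; trivial
    induction this using Algebra.adjoin_induction with
    | mem x hx => exact Algebra.subset_adjoin ⟨x, hx, rfl⟩
    | algebraMap r =>
      show algebraMap ℂ L r ∈ B'
      rw [IsScalarTower.algebraMap_apply ℂ k L]
      exact Subalgebra.algebraMap_mem _ _
    | add x y _ _ hx hy => exact add_mem hx hy
    | mul x y _ _ hx hy => exact mul_mem hx hy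
  have : Algebra.FiniteType k B' :=
    (Subalgebra.fg_iff_finiteType B').1 (Subalgebra.fg_def.2 ⟨G, T.finite_toSet.image _, rfl⟩)
  obtain ⟨Q, hQ⟩ := Ideal.exists_maximal B'
  let := Ideal.Quotient.field Q
  have : Module.Finite k (B' ⧸ Q) := finite_of_finite_type_of_isJacobsonRing k (B' ⧸ Q)
  let m := Module.finrank k (B' ⧸ Q) + 1
  have hm : 0 < m := Nat.succ_pos _
  obtain ⟨f, h, hf, hfh⟩ := hu m hm
  let w : L := algebraMap A L h / algebraMap A L f
  have hw : w ^ m = algebraMap A L u := by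
    have hf0 : algebraMap A L f ≠ 0 := (map_ne_zero_iff _ (IsFractionRing.injective A L)).2 hf
    rw [div_pow, ← map_pow, hfh, map_mul, map_pow, mul_comm, mul_div_assoc, div_self (pow_ne_zero _ hf0), mul_one]
  have hwC : w ∈ C' := IsIntegral.of_pow hm (by
    rw [hw]; exact (IsIntegral.of_finite P u).map (IsScalarTower.toAlgHom P A L))
  let wb : B' ⧸ Q := Ideal.Quotient.mk Q ⟨w, hC ⟨w, hwC⟩⟩
  have hwb : Polynomial.aeval wb (X ^ m - C (algebraMap ℂ[X] k X) : k[X]) = 0 := by
    rw [map_sub, map_pow, aeval_X, aeval_C, IsScalarTower.algebraMap_apply k B' (B' ⧸ Q), sub_eq_zero]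
    show Ideal.Quotient.mk Q (_ ^ m) = Ideal.Quotient.mk Q _
    congr 1
    refine Subtype.ext ?_
    show w ^ m = algebraMap k L (algebraMap ℂ[X] k X)
    rw [hw, hkL]
    exact (Polynomial.aeval_X _).symm
  have hmin := minpoly.eq_of_irreducible_of_monic (irreducible_X_pow_sub_C_X m hm) hwb
    (monic_X_pow_sub_C _ hm.ne')
  have hle := minpoly.natDegree_le (A := k) wb
  rw [← hmin, natDegree_X_pow_sub_C] at hle
  omega

/-- A unit on an integral affine variety with a continuous logarithm is a scalar. -/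
theorem mem_range_algebraMap_of_exp {k : ℕ} (a : Fin k → A)
    (ha : Function.Surjective (MvPolynomial.aeval a : MvPolynomial (Fin k) ℂ → A)) (u : A) (G : (Fin k → ℂ) → ℂ)
    (hG : ContinuousOn G (Set.range fun (ψ : A →ₐ[ℂ] ℂ) i => ψ (a i)))
    (he : ∀ ψ : A →ₐ[ℂ] ℂ, Complex.exp (G fun i => ψ (a i)) = ψ u) : u ∈ Set.range (algebraMap ℂ A) := by
  have : Algebra.FiniteType ℂ A := Algebra.FiniteType.of_surjective (MvPolynomial.aeval a) ha
  refine mem_range_algebraMap_of_forall_root u fun m hm => ?_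
  set Z := Set.range fun (ψ : A →ₐ[ℂ] ℂ) i => ψ (a i)
  obtain ⟨U, hU⟩ := ha u
  have hUe : ∀ z ∈ Z, MvPolynomial.eval z U = Complex.exp (G z) := by
    rintro _ ⟨ψ, rfl⟩
    show MvPolynomial.eval (fun i => ψ (a i)) U = _
    rw [he, ← hU, ← AlgHom.comp_apply, MvPolynomial.comp_aeval]
    rfl
  obtain ⟨f, h, hf, hfh⟩ := exists_rational a ha (fun z => Complex.exp (G z / m)) (fun γ s₀ hγ hZ => by
    have hUd : DifferentiableAt ℂ (fun s => MvPolynomial.eval (γ s) U) s₀ := by
      clear hU hUe hZ
      induction U using MvPolynomial.induction_on with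
      | C c => simp
      | add p q hp hq => simpa only [map_add] using hp.fun_add hq
      | mul_X p i hp => simpa only [map_mul, MvPolynomial.eval_X] using hp.fun_mul (differentiableAt_pi.1 hγ i)
    have hGc : Tendsto (fun s => G (γ s) - G (γ s₀)) (𝓝 s₀) (𝓝 0) := by
      have : Tendsto (fun s => G (γ s)) (𝓝 s₀) (𝓝 (G (γ s₀))) :=
        (hG _ hZ.self_of_nhds).tendsto.comp (tendsto_nhdsWithin_iff.2 ⟨hγ.continuousAt, hZ⟩)
      simpa using this.sub_const (G (γ s₀))
    have hev : (fun s => Complex.exp (G (γ s) / m)) =ᶠ[𝓝 s₀]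
        fun s => Complex.exp ((G (γ s₀) + Complex.log (MvPolynomial.eval (γ s) U / MvPolynomial.eval (γ s₀) U)) / m) := by
      filter_upwards [hZ, hGc (Metric.ball_mem_nhds 0 Real.pi_pos)] with s hs hsmall
      rw [hUe _ hs, hUe _ hZ.self_of_nhds, ← Complex.exp_sub]
      have := mem_ball_zero_iff.1 (Set.mem_preimage.1 hsmall)
      have him := abs_lt.1 ((Complex.abs_im_le_norm _).trans_lt this)
      rw [Complex.log_exp him.1 him.2.le, add_sub_cancel]
    refine DifferentiableAt.congr_of_eventuallyEq ?_ hev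
    refine (((DifferentiableAt.clog (hUd.div_const _) ?_).const_add _).div_const _).cexp
    rw [div_self (by rw [hUe _ hZ.self_of_nhds]; exact Complex.exp_ne_zero _)]
    exact Complex.one_mem_slitPlane) u (fun ψ => by
    rw [Complex.norm_exp, ← he ψ, Complex.norm_exp, Complex.div_natCast_re]
    set r := (G fun i => ψ (a i)).re
    rcases le_total r 0 with hr | hr
    · have : Real.exp (r / m) ≤ 1 := Real.exp_le_one_iff.2 (div_nonpos_of_nonpos_of_nonneg hr (Nat.cast_nonneg _))
      linarith [Real.exp_pos r]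
    · have : Real.exp (r / m) ≤ Real.exp r :=
        Real.exp_le_exp.2 (div_le_self hr (by exact_mod_cast hm))
      linarith)
  refine ⟨f, h, hf, ?_⟩
  have : (h ^ m - f ^ m * u) * f = 0 := eq_zero_of_forall_algHom ha fun ψ => by
    rw [map_mul, map_sub, map_pow, map_mul, map_pow]
    by_cases hψ : ψ f = 0
    · rw [hψ, mul_zero]
    · rw [hfh ψ hψ, mul_pow, ← Complex.exp_nat_mul, mul_div_cancel₀ _ (Nat.cast_ne_zero.2 hm.ne'), he, sub_self, zero_mul]
  exact sub_eq_zero.1 ((mul_eq_zero.1 this).resolve_right hf)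

end Algebra

open AlgebraicGeometry CategoryTheory TopologicalSpace An

variable {X : Scheme.{0}} [X.Over SC] [LocallyOfFiniteType (X ↘ SC)]

theorem evTop_eq_of_exp_affine [IsAffine X] [IsIntegral X] (u : Γ(X, ⊤)) (g : C(Pts X, ℂ))
    (hg : ∀ x, Complex.exp (g x) = x.evTop u) (x y : Pts X) : x.evTop u = y.evTop u := by
  obtain ⟨k, s, hs⟩ := exists_surjective_eval₂ (X := X)
  letI : Algebra ℂ Γ(X, ⊤) := (strHom X).toAlgebra
  have : Nonempty ↥(⊤ : X.Opens) := ⟨⟨Classical.arbitrary X, trivial⟩⟩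
  have : Nonempty (Pts X) := ⟨x⟩
  have ha : Function.Surjective (MvPolynomial.aeval s : MvPolynomial (Fin k) ℂ → Γ(X, ⊤)) := hs
  have hc := isClosedEmbedding_coords s hs
  let G : (Fin k → ℂ) → ℂ := fun z => g (Function.invFun (coords s) z)
  have hGc : ∀ z : Pts X, G (coords s z) = g z := fun z => by
    show g _ = _
    rw [Function.leftInverse_invFun hc.injective z]
  have hrange : ∀ ψ : Γ(X, ⊤) →ₐ[ℂ] ℂ, ∃ z : Pts X, coords s z = (fun i => ψ (s i)) ∧ ∀ f, z.evTop f = ψ f := by
    intro ψ
    obtain ⟨z, hz⟩ := exists_evTop_eq (X := X) ψ.toRingHom fun c => ψ.commutes c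
    exact ⟨z, funext fun i => hz (s i), hz⟩
  obtain ⟨c, hc'⟩ := mem_range_algebraMap_of_exp s ha u G
    (by
      refine ContinuousOn.mono (s := Set.range (coords s)) ?_ ?_
      · rintro _ ⟨z, rfl⟩
        have : Tendsto (G ∘ coords s) (𝓝 z) (𝓝 (G (coords s z))) := by
          rw [show G ∘ coords s = g from funext hGc, hGc]; exact g.continuous.continuousAt
        rw [ContinuousWithinAt, ← hc.isEmbedding.map_nhds_eq, tendsto_map'_iff]
        exact this
      · rintro _ ⟨ψ, rfl⟩
        obtain ⟨z, hz, -⟩ := hrange ψ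
        exact ⟨z, hz⟩)
    (fun ψ => by
      obtain ⟨z, hz, hz'⟩ := hrange ψ
      rw [← hz, hGc, hg, hz'])
  rw [← hc']
  exact (evTop_strHom x c).trans (evTop_strHom y c).symm

theorem evTop_eq_of_exp_irreducible_affine [IsAffine X] (u : Γ(X, ⊤)) (g : C(Pts X, ℂ))
    (hg : ∀ x, Complex.exp (g x) = x.evTop u) {C : Set X} (hC : IsClosed C) (hC' : IsIrreducible C)
    {x y : Pts X} (hx : x.pt ∈ C) (hy : y.pt ∈ C) : x.evTop u = y.evTop u := by
  let I := Scheme.IdealSheafData.vanishingIdeal (X := X) ⟨C, hC⟩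
  letI : I.subscheme.Over SC := ⟨I.subschemeι ≫ (X ↘ SC)⟩
  have : I.subschemeι.IsOver SC := ⟨rfl⟩
  have : LocallyOfFiniteType (I.subscheme ↘ SC) := inferInstanceAs (LocallyOfFiniteType (I.subschemeι ≫ (X ↘ SC)))
  have hr : Set.range I.subschemeι = C := by
    rw [Scheme.IdealSheafData.range_subschemeι, Scheme.IdealSheafData.coe_support_vanishingIdeal]
    rfl
  have : IsReduced I.subscheme := Props12.isReduced_subscheme_vanishingIdeal _
  have : IsAffine I.subscheme := isAffine_of_isAffineHom I.subschemeι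
  have hirr : IsIrreducible (Set.univ : Set I.subscheme) := by
    have hd : IsInducing I.subschemeι := I.subschemeι.isClosedEmbedding.isInducing
    obtain ⟨z, hz⟩ := hC'.nonempty
    rw [← hr] at hz
    obtain ⟨w, rfl⟩ := hz
    refine ⟨⟨w, trivial⟩, fun u v hu hv => ?_⟩
    obtain ⟨u', hu', rfl⟩ := hd.isOpen_iff.1 hu
    obtain ⟨v', hv', rfl⟩ := hd.isOpen_iff.1 hv
    rintro ⟨p, -, hp⟩ ⟨q, -, hq⟩
    obtain ⟨r, hrC, hru, hrv⟩ := hC'.isPreirreducible u' v' hu' hv' ⟨_, hr.le ⟨p, rfl⟩, hp⟩ ⟨_, hr.le ⟨q, rfl⟩, hq⟩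
    obtain ⟨r, rfl⟩ := hr.ge hrC
    exact ⟨r, trivial, hru, hrv⟩
  have : IrreducibleSpace I.subscheme := irreducibleSpace_def _ |>.2 hirr
  have : IsIntegral I.subscheme := isIntegral_of_irreducibleSpace_of_isReduced _
  obtain ⟨x', rfl⟩ : x ∈ Set.range (Pts.map I.subschemeι) := by
    rw [range_map_of_isClosedImmersion, Set.mem_preimage, hr]; exact hx
  obtain ⟨y', rfl⟩ : y ∈ Set.range (Pts.map I.subschemeι) := by
    rw [range_map_of_isClosedImmersion, Set.mem_preimage, hr]; exact hy
  rw [evTop_map, evTop_map]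
  exact evTop_eq_of_exp_affine _ (g.comp (Pts.mapC I.subschemeι)) (fun z => (hg _).trans (evTop_map _ z u)) x' y'

theorem evTop_eq_of_exp [ConnectedSpace X] (u : Γ(X, ⊤)) (g : C(Pts X, ℂ))
    (hg : ∀ x, Complex.exp (g x) = x.evTop u) (x y : Pts X) : x.evTop u = y.evTop u := by
  have : IsLocallyNoetherian X := LocallyOfFiniteType.isLocallyNoetherian (X ↘ SC)
  have hirr : ∀ {C : Set X}, IsClosed C → IsIrreducible C → ∀ x y : Pts X, x.pt ∈ C → y.pt ∈ C →
      x.evTop u = y.evTop u := by
    intro C hC hC'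
    have loc : ∀ (W : X.Opens), IsAffineOpen W → ∀ x y : Pts X, x.pt ∈ C → y.pt ∈ C → x.pt ∈ W → y.pt ∈ W →
        x.evTop u = y.evTop u := by
      intro W hW x y hx hy hxW hyW
      have : IsAffine W.toScheme := hW
      have : LocallyOfFiniteType (W.toScheme ↘ SC) := inferInstanceAs (LocallyOfFiniteType (W.ι ≫ (X ↘ SC)))
      obtain ⟨x', rfl⟩ := exists_map_eq_of_isOpenImmersion W.ι x (by rw [Scheme.Opens.range_ι]; exact hxW)
      obtain ⟨y', rfl⟩ := exists_map_eq_of_isOpenImmersion W.ι y (by rw [Scheme.Opens.range_ι]; exact hyW)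
      rw [Pts.pt_map] at hx hy
      rw [evTop_map, evTop_map]
      exact evTop_eq_of_exp_irreducible_affine _ (g.comp (Pts.mapC W.ι)) (fun z => (hg _).trans (evTop_map _ z u))
        (hC.preimage W.ι.continuous)
        (hC'.preimage W.ι.isOpenEmbedding ⟨_, hx, x'.pt, rfl⟩)
        hx hy
    intro x y hx hy
    obtain ⟨Wx, hWx, hxW, -⟩ := exists_isAffineOpen_mem_and_subset (x := x.pt) (U := (⊤ : X.Opens)) trivial
    obtain ⟨Wy, hWy, hyW, -⟩ := exists_isAffineOpen_mem_and_subset (x := y.pt) (U := (⊤ : X.Opens)) trivial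
    obtain ⟨p, hpC, hp⟩ := hC'.isPreirreducible Wx Wy Wx.2 Wy.2 ⟨_, hx, hxW⟩ ⟨_, hy, hyW⟩
    obtain ⟨q, hqC, hqx, hqy⟩ := exists_pt_mem (X := X) (hC.isLocallyClosed.inter (Wx.2.inter Wy.2).isLocallyClosed) ⟨p, hpC, hp⟩
    exact (loc Wx hWx x q hx hqC hxW hqx).trans (loc Wy hWy q y hqC hy hqy hyW)
  let A : Set X := {p | ∀ z : Pts X, z.pt ∈ closure ({p} : Set X) → z.evTop u = x.evTop u}
  have hor : ∀ p : X, ∀ z : Pts X, z.pt ∈ closure ({p} : Set X) → z.evTop u = x.evTop u → p ∈ A := fun p z hz e w hw =>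
    (hirr isClosed_closure isIrreducible_singleton.closure w z hw hz).trans e
  have hstab : ∀ p q : X, p ⤳ q → (p ∈ A ↔ q ∈ A) := by
    intro p q hpq
    refine ⟨fun hp z hz => hp z (hpq.closure_subset hz), fun hq => ?_⟩
    obtain ⟨z, hz⟩ := exists_pt_mem (X := X) (isClosed_closure (s := ({q} : Set X))).isLocallyClosed ⟨q, subset_closure rfl⟩
    exact hor p z (hpq.closure_subset hz) (hq z hz)
  have hclopen : IsClopen A :=
    ⟨isOpen_compl_iff.1 (isOpen_of_stable fun p q hpq => not_congr (hstab p q hpq)), isOpen_of_stable hstab⟩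
  have hA : A = Set.univ := hclopen.eq_univ ⟨x.pt, hor _ x (subset_closure rfl) rfl⟩
  exact ((hA.ge (Set.mem_univ y.pt)) y (subset_closure rfl)).symm

omit [LocallyOfFiniteType (X ↘ SC)] in
/-- A map to `ℂ^×` homotopic to a constant has a logarithm. -/
theorem exists_log_of_homotopic {T : Type} [TopologicalSpace T] (φ : C(T, {z : ℂ // z ≠ 0}))
    (z₀ : {z : ℂ // z ≠ 0}) (h : φ.Homotopic (ContinuousMap.const T z₀)) :
    ∃ g : C(T, ℂ), ∀ t, Complex.exp (g t) = (φ t).1 := by
  obtain ⟨H⟩ := h.symm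
  have h0 : ∀ t, H.toContinuousMap (0, t) = (⟨Complex.exp (Complex.log z₀.1), Complex.exp_ne_zero _⟩ : {z : ℂ // z ≠ 0}) := fun t => by
    show H (0, t) = _
    rw [H.apply_zero]
    exact Subtype.ext (Complex.exp_log z₀.2).symm
  let F := Complex.isCoveringMap_exp.liftHomotopy H.toContinuousMap (ContinuousMap.const T (Complex.log z₀.1)) h0
  refine ⟨⟨fun t => F (1, t), F.continuous.comp (Continuous.prodMk continuous_const continuous_id)⟩, fun t => ?_⟩
  have := congrArg Subtype.val (congrFun (Complex.isCoveringMap_exp.liftHomotopy_lifts H.toContinuousMap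
    (ContinuousMap.const T (Complex.log z₀.1)) h0) (1, t))
  refine this.trans ?_
  show (H (1, t)).1 = _
  rw [H.apply_one]

end Groth.Agent.AnLib
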