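import Groth.Agent.AnLib.EtaleLocal
import Groth.Agent.AnLib.CharDense
import Groth.Agent.AnLib.Morphisms
import Mathlib.AlgebraicGeometry.Morphisms.Finite
import Mathlib.Topology.Maps.Proper.CompactlyGenerated
import Mathlib.Topology.Covering.Basic

/-! Finite morphisms on ℂ-points: closed with finite fibres; finite étale ones are coverings. -/

set_option autoImplicit false
set_option backward.isDefEq.respectTransparency.types false

open AlgebraicGeometry CategoryTheory TopologicalSpace Opposite Topology MvPolynomial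

noncomputable section

namespace Groth.Agent.AnLib

open An

variable {U V : Scheme.{0}} [U.Over SC] [V.Over SC]

theorem t2Space_of_isAffine [IsAffine V] [LocallyOfFiniteType (V ↘ SC)] : T2Space (Pts V) := by
  obtain ⟨m, s, hs⟩ := exists_surjective_eval₂ (X := V)
  exact (isClosedEmbedding_coords s hs).isEmbedding.t2Space

theorem locallyOfFiniteType_over (g : U ⟶ V) [g.IsOver SC] [LocallyOfFiniteType g]
    [LocallyOfFiniteType (V ↘ SC)] : LocallyOfFiniteType (U ↘ SC) := by
  rw [← comp_over g SC]; infer_instance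

theorem isProperMap_of_isFinite_affine [IsAffine U] [IsAffine V] [LocallyOfFiniteType (V ↘ SC)]
    (g : U ⟶ V) [g.IsOver SC] [IsFinite g] :
    IsProperMap (Pts.map g) ∧ ∀ v, (Pts.map g ⁻¹' {v}).Finite := by
  classical
  let _ : Algebra Γ(V, ⊤) Γ(U, ⊤) := g.appTop.hom.toAlgebra
  have : Module.Finite Γ(V, ⊤) Γ(U, ⊤) :=
    ((HasAffineProperty.iff_of_isAffine (P := @IsFinite)).1 ‹_›).2
  obtain ⟨m, s, hs⟩ := exists_surjective_eval₂ (X := V)
  obtain ⟨n, b, hb⟩ := Module.Finite.exists_fin (R := Γ(V, ⊤)) (M := Γ(U, ⊤))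
  choose F hF hF0 using fun i => Algebra.IsIntegral.isIntegral (R := Γ(V, ⊤)) (b i)
  let eq : Fin (m + n) ≃ Fin m ⊕ Fin n := finSumFinEquiv.symm
  let s' : Fin (m + n) → Γ(U, ⊤) := fun k => Sum.elim (fun a => g.appTop (s a)) b (eq k)
  have hs' : Function.Surjective (eval₂Hom (strHom U) s') := by
    rw [← RingHom.range_eq_top, eq_top_iff]
    intro x _
    have hx : x ∈ Submodule.span Γ(V, ⊤) (Set.range b) := hb ▸ Submodule.mem_top
    clear * - hs hx
    induction hx using Submodule.span_induction with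
    | mem y hy => obtain ⟨i, rfl⟩ := hy; exact ⟨X (eq.symm (Sum.inr i)), by simp [s']⟩
    | zero => exact zero_mem _
    | add y z _ _ hy hz => exact add_mem hy hz
    | smul a y _ hy =>
      refine mul_mem ?_ hy
      obtain ⟨A, rfl⟩ := hs a
      clear * -
      induction A using MvPolynomial.induction_on with
      | C c => exact ⟨C c, by rw [eval₂Hom_C, eval₂Hom_C, ← strHom_comp g]; rfl⟩
      | add a b ha hb => rw [map_add, map_add]; exact add_mem ha hb
      | mul_X a j ha =>
        rw [map_mul, map_mul]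
        refine mul_mem ha ⟨X (eq.symm (Sum.inl j)), ?_⟩
        simp [s']
  have hce := isClosedEmbedding_coords s' hs'
  let bnd : Pts V → Fin n → ℝ := fun v i =>
    1 + ∑ j ∈ Finset.range (F i).natDegree, ‖v.evTop ((F i).coeff j)‖
  have hev : ∀ a : Γ(V, ⊤), Continuous fun v : Pts V => v.evTop a := fun a =>
    (continuous_apply (0 : Fin 1)).comp (continuous_coords (n := 1) fun _ => a)
  have hbc : ∀ i, Continuous fun v => bnd v i := fun i =>
    continuous_const.add (continuous_finset_sum _ fun j _ => (hev _).norm)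
  have hroot : ∀ (u : Pts U) (i : Fin n),
      ((F i).map (evalHom (Pts.map g u) ⊤ (Opens.mem_top _))).IsRoot (u.evTop (b i)) := fun u i => by
    rw [Polynomial.IsRoot, Polynomial.eval_map]
    have h1 := congrArg (evalHom u ⊤ (Opens.mem_top _)) (hF0 i)
    rw [Polynomial.hom_eval₂, map_zero] at h1
    rw [show evalHom (Pts.map g u) ⊤ (Opens.mem_top _) = (evalHom u ⊤ (Opens.mem_top _)).comp
      (algebraMap Γ(V, ⊤) Γ(U, ⊤)) from RingHom.ext fun a => evTop_map g u a]
    exact h1
  constructor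
  · have := t2Space_of_isAffine (V := V)
    have : LocallyCompactSpace (Pts V) := locallyCompactSpace_pts
    rw [isProperMap_iff_isCompact_preimage]
    refine ⟨Pts.continuous_map g, fun K hK => ?_⟩
    choose R hR using fun i => (hK.image (hbc i)).bddAbove
    let B : Set (Fin (m + n) → ℂ) := Set.pi Set.univ fun k =>
      Sum.elim (fun a => (fun v => coords s v a) '' K) (fun i => Metric.closedBall (0 : ℂ) (R i)) (eq k)
    have hB : IsCompact B := isCompact_univ_pi fun k => by
      cases eq k with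
      | inl a => exact hK.image ((continuous_apply a).comp (continuous_coords s))
      | inr i => exact isCompact_closedBall _ _
    refine (hce.isCompact_preimage hB).of_isClosed_subset (hK.isClosed.preimage (Pts.continuous_map g)) ?_
    intro u hu k _
    show coords s' u k ∈ _
    simp only [coords, s']
    cases eq k with
    | inl a => exact ⟨_, hu, evTop_map g u (s a)⟩
    | inr i =>
      rw [Sum.elim_inr, Sum.elim_inr, mem_closedBall_zero_iff]
      refine le_trans ?_ (hR i ⟨_, hu, rfl⟩)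
      refine (norm_le_of_isRoot ((hF i).map _) (hroot u i)).trans ?_
      rw [(hF i).natDegree_map]
      simp only [Polynomial.coeff_map]
      exact le_rfl
  · intro v
    let roots : Fin n → Set ℂ := fun i =>
      {z | ((F i).map (evalHom v ⊤ (Opens.mem_top _))).IsRoot z}
    have hfin : ∀ i, (roots i).Finite := fun i =>
      Polynomial.finite_setOf_isRoot ((hF i).map _).ne_zero
    let T : Set (Fin (m + n) → ℂ) :=
      Set.pi Set.univ fun k => Sum.elim (fun a => {coords s v a}) roots (eq k)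
    have hT : T.Finite := Set.Finite.pi fun k => by
      cases eq k with
      | inl a => exact Set.finite_singleton _
      | inr i => exact hfin i
    refine (hT.preimage hce.injective.injOn).subset fun u hu k _ => ?_
    obtain rfl : Pts.map g u = v := hu
    show coords s' u k ∈ _
    simp only [coords, s']
    cases eq k with
    | inl a => exact (evTop_map g u (s a)).symm
    | inr i => exact hroot u i

variable {X Y : Scheme.{0}} [X.Over SC] [Y.Over SC] (f : X ⟶ Y) [f.IsOver SC]

/-- Over an open, the map on points is the restricted morphism. -/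
theorem exists_restrict_homeo (W : Y.Opens) :
    ∃ (_ : (f ∣_ W).IsOver SC) (a : Pts (f ⁻¹ᵁ W).toScheme ≃ₜ (Pts.map f ⁻¹' (Pts.pt ⁻¹' (W : Set Y)) : Set (Pts X)))
      (b : Pts W.toScheme ≃ₜ (Pts.pt ⁻¹' (W : Set Y) : Set (Pts Y))),
      (Pts.pt ⁻¹' (W : Set Y)).restrictPreimage (Pts.map f) = b ∘ Pts.map (f ∣_ W) ∘ a.symm := by
  have hover : (f ∣_ W).IsOver SC := ⟨by
    show (f ∣_ W) ≫ W.ι ≫ (Y ↘ SC) = (f ⁻¹ᵁ W).ι ≫ (X ↘ SC)
    rw [morphismRestrict_ι_assoc, comp_over f SC]⟩
  have h1 := isOpenEmbedding_map (f ⁻¹ᵁ W).ι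
  have h2 := isOpenEmbedding_map W.ι
  have r1 : Set.range (Pts.map (f ⁻¹ᵁ W).ι) = Pts.map f ⁻¹' (Pts.pt ⁻¹' (W : Set Y)) := by
    rw [range_map_of_isOpenImmersion, Scheme.Opens.range_ι]
    ext x
    show f x.pt ∈ W ↔ (Pts.map f x).pt ∈ W
    rw [Pts.pt_map]
  have r2 : Set.range (Pts.map W.ι) = Pts.pt ⁻¹' (W : Set Y) := by
    rw [range_map_of_isOpenImmersion, Scheme.Opens.range_ι]
  refine ⟨hover, h1.isEmbedding.toHomeomorph.trans (Homeomorph.setCongr r1),
    h2.isEmbedding.toHomeomorph.trans (Homeomorph.setCongr r2), ?_⟩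
  rw [← Function.comp_assoc]
  refine (Equiv.eq_comp_symm (h1.isEmbedding.toHomeomorph.trans (Homeomorph.setCongr r1)).toEquiv _ _).2
    (funext fun u => Subtype.ext (Subtype.ext ?_))
  show (u.1 ≫ (f ⁻¹ᵁ W).ι) ≫ f = (u.1 ≫ (f ∣_ W)) ≫ W.ι
  rw [Category.assoc, Category.assoc, morphismRestrict_ι]

theorem isClosedMap_and_finite_of_isFinite [LocallyOfFiniteType (Y ↘ SC)] [IsFinite f] :
    IsClosedMap (Pts.map f) ∧ ∀ y, (Pts.map f ⁻¹' {y}).Finite := by
  have hW : ∀ y : Y, ∃ W : Y.Opens, IsAffineOpen W ∧ y ∈ W := fun y => by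
    obtain ⟨W, hW, hyW, -⟩ := exists_isAffineOpen_mem_and_subset (x := y) (U := (⊤ : Y.Opens)) trivial
    exact ⟨W, hW, hyW⟩
  choose W hWa hyW using hW
  have key : ∀ y : Y, IsClosedMap ((Pts.pt ⁻¹' (W y : Set Y)).restrictPreimage (Pts.map f)) ∧
      ∀ q, ((Pts.pt ⁻¹' (W y : Set Y)).restrictPreimage (Pts.map f) ⁻¹' {q}).Finite := by
    intro y
    obtain ⟨_, a, b, hab⟩ := exists_restrict_homeo f (W y)
    have : IsAffine (W y).toScheme := hWa y
    have : IsAffine (f ⁻¹ᵁ W y).toScheme := (hWa y).preimage f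
    have : LocallyOfFiniteType ((W y).toScheme ↘ SC) :=
      inferInstanceAs (LocallyOfFiniteType ((W y).ι ≫ (Y ↘ SC)))
    have : IsFinite (f ∣_ W y) := IsZariskiLocalAtTarget.restrict ‹_› _
    obtain ⟨h1, h2⟩ := isProperMap_of_isFinite_affine (f ∣_ W y)
    refine ⟨hab ▸ b.isClosedMap.comp (h1.isClosedMap.comp a.symm.isClosedMap), fun q => ?_⟩
    rw [hab]
    refine ((h2 (b.symm q)).preimage a.symm.injective.injOn).subset fun x hx => ?_
    show _ = _
    rw [← show b _ = q from hx, Homeomorph.symm_apply_apply]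
    rfl
  constructor
  · refine (TopologicalSpace.IsOpenCover.isClosedMap_iff_restrictPreimage
      (U := fun y : Y => (⟨_, Pts.isOpen_preimage_pt (W y)⟩ : Opens (Pts Y))) ?_).2 fun y => (key y).1
    exact IsOpenCover.mk (eq_top_iff.2 fun p _ => Opens.mem_iSup.2 ⟨p.pt, hyW p.pt⟩)
  · intro q
    refine (((key q.pt).2 ⟨q, hyW q.pt⟩).image Subtype.val).subset fun x hx => ?_
    exact ⟨⟨x, show (Pts.map f x).pt ∈ W q.pt by rw [show Pts.map f x = q from hx]; exact hyW q.pt⟩,
      Subtype.ext hx, rfl⟩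

theorem isCoveringMap_of_finite_etale [LocallyOfFiniteType (Y ↘ SC)] [IsFinite f] [Etale f] :
    IsCoveringMap (Pts.map f) := by
  rw [isCoveringMap_iff_isCoveringMapOn_univ]
  intro y _
  obtain ⟨W, hW, hyW, -⟩ := exists_isAffineOpen_mem_and_subset (x := y.pt) (U := (⊤ : Y.Opens)) trivial
  obtain ⟨_, a, b, hab⟩ := exists_restrict_homeo f W
  have : IsAffine W.toScheme := hW
  have : IsAffine (f ⁻¹ᵁ W).toScheme := hW.preimage f
  have : LocallyOfFiniteType (W.toScheme ↘ SC) := inferInstanceAs (LocallyOfFiniteType (W.ι ≫ (Y ↘ SC)))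
  have : IsFinite (f ∣_ W) := IsZariskiLocalAtTarget.restrict ‹_› _
  have : LocallyOfFiniteType ((f ⁻¹ᵁ W).toScheme ↘ SC) := locallyOfFiniteType_over (f ∣_ W)
  have := t2Space_of_isAffine (V := (f ⁻¹ᵁ W).toScheme)
  obtain ⟨h1, h2⟩ := isProperMap_of_isFinite_affine (f ∣_ W)
  have hlh := etaleLH (f ⁻¹ᵁ W).toScheme W.toScheme (f ∣_ W)
  have hc : IsCoveringMap (Pts.map (f ∣_ W)) := isCoveringMap_iff_isCoveringMapOn_univ.2
    (h1.isClosedMap.isCoveringMapOn_of_isLocalHomeomorphOn (fun v _ => h2 v) hlh.isLocalHomeomorphOn)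
  have hr : IsCoveringMap ((Pts.pt ⁻¹' (W : Set Y)).restrictPreimage (Pts.map f)) :=
    hab ▸ (hc.comp_homeomorph a.symm).homeomorph_comp b
  exact (IsCoveringMapOn.of_isCoveringMap_restrictPreimage (s := Pts.pt ⁻¹' (W : Set Y))
    (Pts.isOpen_preimage_pt W) ((Pts.isOpen_preimage_pt W).preimage (Pts.continuous_map f)) hr) y hyW

end Groth.Agent.AnLib
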