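import Mathlib.Analysis.Complex.RemovableSingularity
import Mathlib.Analysis.Complex.Liouville
import Mathlib.Analysis.Complex.TaylorSeries
import Mathlib.RingTheory.MvPolynomial.Basic
import Mathlib.Topology.Algebra.MvPolynomial
import Mathlib.LinearAlgebra.Lagrange
import Mathlib.Algebra.MvPolynomial.Funext

/-! Functions of polynomial growth on the complement of a hypersurface, holomorphic along lines. -/

open Filter Topology Polynomial

noncomputable section

namespace Groth.Agent.AnLib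

theorem exists_polynomial_of_entire {E : ℂ → ℂ} (hE : Differentiable ℂ E) {C : ℝ} {N : ℕ}
    (hb : ∀ z, ‖E z‖ ≤ C * (1 + ‖z‖) ^ N) : ∃ q : ℂ[X], q.natDegree ≤ N ∧ ∀ z, E z = q.eval z := by
  have hC : 0 ≤ C := by simpa using (norm_nonneg _).trans (hb 0)
  have hz : ∀ m, N < m → iteratedDeriv m E 0 = 0 := by
    intro m hm
    rw [← norm_le_zero_iff]
    have key : ∀ R : ℝ, 1 ≤ R → ‖iteratedDeriv m E 0‖ ≤ (m.factorial * (C * 2 ^ N)) * R⁻¹ := by
      intro R hR
      have hR0 : 0 < R := one_pos.trans_le hR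
      refine (Complex.norm_iteratedDeriv_le_of_forall_mem_sphere_norm_le m hR0 hE.diffContOnCl
        (C := C * (2 * R) ^ N) fun z hz => ?_).trans ?_
      · rw [mem_sphere_iff_norm, sub_zero] at hz
        refine (hb z).trans (mul_le_mul_of_nonneg_left (pow_le_pow_left₀ (by positivity) ?_ N) hC)
        linarith
      · rw [mul_pow, div_le_iff₀ (pow_pos hR0 m), ← mul_assoc C, ← mul_assoc, mul_assoc _ R⁻¹]
        refine mul_le_mul_of_nonneg_left ?_ (by positivity)
        rw [← pow_sub_one_mul (show m ≠ 0 by omega), mul_comm _ R, ← mul_assoc, inv_mul_cancel₀ hR0.ne', one_mul]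
        exact pow_le_pow_right₀ hR (by omega)
    refine ge_of_tendsto (f := fun R : ℝ => (m.factorial * (C * 2 ^ N)) * R⁻¹) ?_ (eventually_ge_atTop (1 : ℝ) |>.mono key)
    simpa using (tendsto_inv_atTop_zero (𝕜 := ℝ)).const_mul _
  refine ⟨∑ m ∈ Finset.range (N + 1), Polynomial.C ((m.factorial : ℂ)⁻¹ * iteratedDeriv m E 0) * X ^ m,
    natDegree_sum_le_of_forall_le _ _ fun m hm => (natDegree_C_mul_X_pow_le _ _).trans (Nat.lt_succ_iff.1 (Finset.mem_range.1 hm)),
    fun z => ?_⟩
  rw [← Complex.taylorSeries_eq_of_entire' 0 z hE, tsum_eq_sum (s := Finset.range (N + 1)), eval_finsetSum]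
  · simp
  · intro m hm
    rw [hz m (by rw [Finset.mem_range] at hm; omega)]
    simp

/-- A function on a cofinite subset of `ℂ`, holomorphic there and of polynomial growth, is polynomial. -/
theorem exists_polynomial_of_finite {e : ℂ → ℂ} {S : Set ℂ} (hS : S.Finite)
    (hd : ∀ s ∉ S, DifferentiableAt ℂ e s) {C : ℝ} {N : ℕ} (hC : 0 ≤ C)
    (hb : ∀ s ∉ S, ‖e s‖ ≤ C * (1 + ‖s‖) ^ N) :
    ∃ q : ℂ[X], q.natDegree ≤ N ∧ ∀ s ∉ S, e s = q.eval s := by
  classical
  have key : ∀ a : ℂ, ∀ᶠ s in 𝓝[≠] a, s ∉ S := by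
    intro a
    rw [eventually_nhdsWithin_iff]
    filter_upwards [(hS.subset (Set.sdiff_subset (t := {a}))).isClosed.isOpen_compl.mem_nhds
      (show a ∈ (S \ {a})ᶜ from fun h => h.2 rfl)] with s hs hsa hmem
    exact hs ⟨hmem, hsa⟩
  let E : ℂ → ℂ := fun a => limUnder (𝓝[≠] a) e
  have hEe : ∀ s ∉ S, E s = e s := fun s hs =>
    ((hd s hs).continuousAt.tendsto.mono_left nhdsWithin_le_nhds).limUnder_eq
  have hE : Differentiable ℂ E := by
    intro a
    obtain ⟨r, hr, hball⟩ := Metric.eventually_nhds_iff.1 (eventually_nhdsWithin_iff.1 (key a))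
    have hsub : ∀ s ∈ Metric.ball a r \ {a}, s ∉ S := fun s hs => hball (Metric.mem_ball.1 hs.1) hs.2
    have h1 := Complex.differentiableOn_update_limUnder_of_bddAbove (Metric.ball_mem_nhds a hr)
      (fun s hs => (hd s (hsub s hs)).differentiableWithinAt)
      ⟨C * (1 + (‖a‖ + r)) ^ N, by
        rintro _ ⟨s, hs, rfl⟩
        refine (hb s (hsub s hs)).trans (mul_le_mul_of_nonneg_left (pow_le_pow_left₀ (by positivity) ?_ N) hC)
        have := norm_le_norm_add_norm_sub' s a
        have h2 := mem_ball_iff_norm.1 hs.1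
        linarith⟩
    refine (h1.differentiableAt (Metric.ball_mem_nhds a hr)).congr_of_eventuallyEq ?_
    filter_upwards [Metric.ball_mem_nhds a hr] with s hs
    rcases eq_or_ne s a with rfl | hne
    · rw [Function.update_self]
    · rw [Function.update_of_ne hne, hEe s (hsub s ⟨hs, hne⟩)]
  obtain ⟨q, hq, hqe⟩ := exists_polynomial_of_entire hE (C := C) (N := N) fun z => by
    refine le_of_tendsto_of_tendsto ((hE.continuous.norm.tendsto z).mono_left (nhdsWithin_le_nhds (s := {z}ᶜ)))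
      (((continuous_const.mul ((continuous_const.add continuous_norm).pow N)).tendsto z).mono_left nhdsWithin_le_nhds) ?_
    filter_upwards [key z] with s hs
    rw [hEe s hs]
    exact hb s hs
  exact ⟨q, hq, fun s hs => (hEe s hs).symm.trans (hqe s)⟩

/-- Separately polynomial functions of bounded degree on a product of large sets are polynomial. -/
theorem exists_mvPolynomial_of_separately (N : ℕ) : ∀ {d : ℕ} (W : Fin d → Set ℂ), (∀ i, (W i).Infinite) →
    ∀ e : (Fin d → ℂ) → ℂ, (∀ t, (∀ i, t i ∈ W i) → ∀ i, ∃ q : ℂ[X], q.natDegree ≤ N ∧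
      ∀ x ∈ W i, e (Function.update t i x) = q.eval x) →
    ∃ p : MvPolynomial (Fin d) ℂ, ∀ t, (∀ i, t i ∈ W i) → e t = MvPolynomial.eval t p := by
  intro d
  induction d with
  | zero =>
    intro W _ e _
    exact ⟨MvPolynomial.C (e ![]), fun t _ => by rw [MvPolynomial.eval_C, Subsingleton.elim t ![]]⟩
  | succ d ih =>
    intro W hW e he
    classical
    obtain ⟨A, hA, hAcard⟩ := (hW 0).exists_subset_card_eq (N + 1)
    have hmem : ∀ {a : ℂ}, a ∈ W 0 → ∀ {r : Fin d → ℂ}, (∀ i, r i ∈ W i.succ) → ∀ i, (Fin.cons a r : Fin (d + 1) → ℂ) i ∈ W i :=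
      fun ha r hr => Fin.cases (by simpa using ha) (by simpa using hr)
    have hsub : ∀ a ∈ A, ∃ p : MvPolynomial (Fin d) ℂ, ∀ r, (∀ i, r i ∈ W i.succ) → e (Fin.cons a r) = MvPolynomial.eval r p := by
      intro a ha
      refine ih (fun i => W i.succ) (fun i => hW _) (fun r => e (Fin.cons a r)) fun r hr i => ?_
      obtain ⟨q, hq, hqe⟩ := he _ (hmem (hA ha) hr) i.succ
      refine ⟨q, hq, fun x hx => ?_⟩
      rw [← hqe x hx, Fin.cons_update]
    choose! p hp using hsub
    refine ⟨∑ a ∈ A, Polynomial.aeval (MvPolynomial.X 0) (Lagrange.basis A id a) * MvPolynomial.rename Fin.succ (p a),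
      fun t ht => ?_⟩
    obtain ⟨r, x, rfl⟩ : ∃ r x, t = Fin.cons x r := ⟨Fin.tail t, t 0, (Fin.cons_self_tail t).symm⟩
    have hr : ∀ i, r i ∈ W i.succ := fun i => by simpa using ht i.succ
    obtain ⟨q, hq, hqe⟩ := he _ ht 0
    have hqA : ∀ y ∈ W 0, q.eval y = e (Fin.cons y r) := fun y hy => by
      rw [← hqe y hy, Fin.update_cons_zero]
    have hint : q = Lagrange.interpolate A id fun a => q.eval a :=
      Lagrange.eq_interpolate (fun a _ b _ h => h) (degree_le_natDegree.trans_lt (by rw [hAcard]; exact_mod_cast Nat.lt_succ_of_le hq))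
    have hev : ∀ b : ℂ[X], MvPolynomial.eval (Fin.cons x r) (Polynomial.aeval (MvPolynomial.X (0 : Fin (d + 1))) b) = b.eval x := by
      intro b
      rw [aeval_def, hom_eval₂]
      simp only [MvPolynomial.eval_X, Fin.cons_zero]
      refine (congrArg (fun f : ℂ →+* ℂ => b.eval₂ f x) ?_ : _)
      ext c; simp
    rw [← hqA x (by simpa using ht 0), hint, Lagrange.interpolate_apply, eval_finsetSum, map_sum]
    refine Finset.sum_congr rfl fun a ha => ?_
    rw [eval_mul, eval_C, hqA a (hA ha), map_mul, hev, MvPolynomial.eval_rename, hp a ha r hr, mul_comm]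
    congr 2

theorem exists_line_polynomial {d : ℕ} (g : MvPolynomial (Fin d) ℂ) (t v : Fin d → ℂ) :
    ∃ l : ℂ[X], ∀ s : ℂ, l.eval s = MvPolynomial.eval (t + s • v) g := by
  refine ⟨MvPolynomial.aeval (fun i => Polynomial.C (t i) + Polynomial.X * Polynomial.C (v i)) g, fun s => ?_⟩
  show Polynomial.evalRingHom s (MvPolynomial.aeval _ g) = _
  rw [MvPolynomial.aeval_def, MvPolynomial.eval₂_comp_left, MvPolynomial.eval, MvPolynomial.coe_eval₂Hom]
  congr 1 <;> ext <;> simp
  exact mul_comm _ _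

theorem exists_bound_mvPolynomial {d : ℕ} (p : MvPolynomial (Fin d) ℂ) :
    ∃ (C : ℝ) (N : ℕ), 0 ≤ C ∧ ∀ t : Fin d → ℂ, ‖MvPolynomial.eval t p‖ ≤ C * (1 + ‖t‖) ^ N := by
  induction p using MvPolynomial.induction_on with
  | C a => exact ⟨‖a‖, 0, norm_nonneg _, fun t => by simp⟩
  | add p q hp hq =>
    obtain ⟨C, N, hC, h⟩ := hp
    obtain ⟨C', N', hC', h'⟩ := hq
    refine ⟨C + C', max N N', add_nonneg hC hC', fun t => ?_⟩
    have h1 : (1 : ℝ) ≤ 1 + ‖t‖ := le_add_of_nonneg_right (norm_nonneg _)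
    rw [map_add, add_mul]
    exact (norm_add_le _ _).trans (add_le_add
      ((h t).trans (mul_le_mul_of_nonneg_left (pow_le_pow_right₀ h1 (le_max_left _ _)) hC))
      ((h' t).trans (mul_le_mul_of_nonneg_left (pow_le_pow_right₀ h1 (le_max_right _ _)) hC')))
  | mul_X p i hp =>
    obtain ⟨C, N, hC, h⟩ := hp
    refine ⟨C, N + 1, hC, fun t => ?_⟩
    rw [map_mul, MvPolynomial.eval_X, norm_mul, pow_succ, ← mul_assoc]
    exact mul_le_mul (h t) ((norm_le_pi_norm t i).trans (le_add_of_nonneg_left zero_le_one)) (norm_nonneg _) (by positivity)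

/-- Holomorphic along lines off a hypersurface and of polynomial growth implies polynomial. -/
theorem exists_mvPolynomial_of_lines {d : ℕ} (Δ : MvPolynomial (Fin d) ℂ) (T : (Fin d → ℂ) → ℂ)
    (hdiff : ∀ (t v : Fin d → ℂ) (s₀ : ℂ), MvPolynomial.eval (t + s₀ • v) Δ ≠ 0 →
      DifferentiableAt ℂ (fun s : ℂ => T (t + s • v)) s₀)
    {C : ℝ} {N : ℕ} (hC : 0 ≤ C) (hb : ∀ t, MvPolynomial.eval t Δ ≠ 0 → ‖T t‖ ≤ C * (1 + ‖t‖) ^ N) :
    ∃ p : MvPolynomial (Fin d) ℂ, ∀ t, MvPolynomial.eval t Δ ≠ 0 → T t = MvPolynomial.eval t p := by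
  by_cases hΔ : ∀ t, MvPolynomial.eval t Δ = 0
  · exact ⟨0, fun t ht => absurd (hΔ t) ht⟩
  push Not at hΔ
  obtain ⟨t₀, ht₀⟩ := hΔ
  have hline : ∀ t v : Fin d → ℂ, MvPolynomial.eval t Δ ≠ 0 → ∃ q : ℂ[X], q.natDegree ≤ N ∧
      ∀ s : ℂ, MvPolynomial.eval (t + s • v) Δ ≠ 0 → T (t + s • v) = q.eval s := by
    intro t v ht
    obtain ⟨l, hl⟩ := exists_line_polynomial Δ t v
    have hl0 : l ≠ 0 := fun h => ht (by simpa [h] using (hl 0).symm)
    let B : ℝ := (1 + ‖t‖) * (1 + ‖v‖)
    obtain ⟨q, hq, hqe⟩ := exists_polynomial_of_finite (e := fun s : ℂ => T (t + s • v)) (finite_setOfPred_isRoot hl0)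
      (fun s hs => hdiff t v s (by rw [← hl]; exact hs)) (C := C * B ^ N) (N := N) (by positivity) fun s hs => by
        refine (hb _ (by rw [← hl]; exact hs)).trans ?_
        rw [mul_assoc, ← mul_pow]
        refine mul_le_mul_of_nonneg_left (pow_le_pow_left₀ (by positivity) ?_ N) hC
        have h1 := norm_add_le t (s • v)
        rw [norm_smul] at h1
        show _ ≤ (1 + ‖t‖) * (1 + ‖v‖) * (1 + ‖s‖)
        nlinarith [norm_nonneg t, norm_nonneg v, norm_nonneg s, mul_nonneg (norm_nonneg t) (norm_nonneg v),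
          mul_nonneg (norm_nonneg t) (norm_nonneg s), mul_nonneg (mul_nonneg (norm_nonneg t) (norm_nonneg v)) (norm_nonneg s)]
    exact ⟨q, hq, fun s hs => hqe s (show ¬ l.IsRoot s by rw [IsRoot, hl]; exact hs)⟩
  obtain ⟨r, hr, hball⟩ := Metric.eventually_nhds_iff.1 ((MvPolynomial.continuous_eval Δ).continuousAt.eventually_ne ht₀)
  have hbox : ∀ t : Fin d → ℂ, (∀ i, t i ∈ Metric.ball (t₀ i) r) → MvPolynomial.eval t Δ ≠ 0 := fun t ht =>
    hball ((dist_pi_lt_iff hr).2 fun i => ht i)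
  obtain ⟨p, hp⟩ := exists_mvPolynomial_of_separately N (fun i => Metric.ball (t₀ i) r)
    (fun i => infinite_of_mem_nhds (t₀ i) (Metric.ball_mem_nhds _ hr)) T fun t ht i => by
      classical
      obtain ⟨q, hq, hqe⟩ := hline t (Pi.single i 1) (hbox t ht)
      refine ⟨q.comp (X - Polynomial.C (t i)), ?_, fun x hx => ?_⟩
      · rw [natDegree_comp, natDegree_X_sub_C, mul_one]; exact hq
      · have e : t + (x - t i) • (Pi.single i 1 : Fin d → ℂ) = Function.update t i x := by
          ext j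
          rcases eq_or_ne j i with rfl | hne
          · simp
          · simp [hne]
        have := hqe (x - t i) (by
          rw [e]
          refine hbox _ fun j => ?_
          rcases eq_or_ne j i with rfl | hne
          · simpa using hx
          · simpa [hne] using ht j)
        rw [e] at this
        simpa using this
  refine ⟨p, fun t ht => ?_⟩
  obtain ⟨q, -, hqe⟩ := hline t₀ (t - t₀) ht₀
  obtain ⟨l, hl⟩ := exists_line_polynomial p t₀ (t - t₀)
  have hc : Continuous fun s : ℂ => t₀ + s • (t - t₀) := by fun_prop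
  have hev : ∀ᶠ s in 𝓝 (0 : ℂ), q.eval s = l.eval s := by
    filter_upwards [(hc.tendsto' 0 t₀ (by simp)).eventually (Metric.ball_mem_nhds t₀ hr)] with s hs
    have hs' : ∀ i, (t₀ + s • (t - t₀)) i ∈ Metric.ball (t₀ i) r := fun i =>
      Metric.mem_ball.2 ((dist_le_pi_dist _ t₀ i).trans_lt hs)
    rw [← hqe s (hbox _ hs'), hp _ hs', hl]
  have heq : q = l := Polynomial.eq_of_infinite_eval_eq _ _ (infinite_of_mem_nhds 0 hev)
  have := hqe 1 (by simpa using ht)
  rw [heq, hl] at this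
  simpa using this

end Groth.Agent.AnLib
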