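import Groth.Agent.AnLib.Topology

/-! Regular functions near a point are quotients of polynomials in the coordinates. -/

open AlgebraicGeometry CategoryTheory TopologicalSpace Opposite Topology

noncomputable section

namespace Groth.Agent.AnLib

open An

variable {X : Scheme.{0}} [X.Over SC] [IsAffine X] {n : ℕ}

theorem exists_ev_eq_div (s : Fin n → Γ(X, ⊤)) (hs : Function.Surjective (MvPolynomial.eval₂Hom (strHom X) s))
    (U : X.Opens) (f : Γ(X, U)) (x : Pts X) (hx : x.pt ∈ U) :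
    ∃ A H : MvPolynomial (Fin n) ℂ, MvPolynomial.eval (coords s x) H ≠ 0 ∧
      ∀ z : Pts X, MvPolynomial.eval (coords s z) H ≠ 0 → ∃ hz : z.pt ∈ U,
        z.ev U hz f = MvPolynomial.eval (coords s z) A / MvPolynomial.eval (coords s z) H := by
  obtain ⟨h, hhU, hxh⟩ : ∃ h : Γ(X, ⊤), X.basicOpen h ≤ U ∧ x.pt ∈ X.basicOpen h := by
    obtain ⟨_, ⟨_, ⟨h, rfl⟩, rfl⟩, hxh, hle⟩ :=
      (isBasis_basicOpen X).exists_subset_of_mem_open (show x.pt ∈ (U : Set X) from hx) U.2
    exact ⟨h, hle, hxh⟩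
  have := (isAffineOpen_top X).isLocalization_basicOpen h
  obtain ⟨a, ⟨_, m, rfl⟩, ha⟩ := IsLocalization.exists_mk'_eq (Submonoid.powers h) (X.presheaf.map (homOfLE hhU).op f)
  have hev : ∀ (z : Pts X) (hz : z.pt ∈ X.basicOpen h), z.ev U (hhU hz) f * z.evTop h ^ m = z.evTop a := by
    intro z hz
    have h2 := congrArg (evalHom z _ hz) (IsLocalization.mk'_spec Γ(X, X.basicOpen h) a (⟨h ^ m, pow_mem (Submonoid.mem_powers h) m⟩ : Submonoid.powers h))
    rw [ha, map_mul] at h2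
    simp only [map_pow, RingHom.algebraMap_toAlgebra] at h2
    have e : ∀ b : Γ(X, ⊤), evalHom z _ hz ((X.presheaf.map (homOfLE (X.basicOpen_le h)).op).hom b) = z.evTop b :=
      fun b => ev_res z (X.basicOpen_le h) hz b
    have e2 : evalHom z _ hz (X.presheaf.map (homOfLE hhU).op f) = z.ev U (hhU hz) f := ev_res z hhU hz f
    rw [e2] at h2
    exact (congrArg (fun w => z.ev U (hhU hz) f * w ^ m) (e h).symm).trans (h2.trans (e a))
  obtain ⟨H, hH⟩ := hs h
  obtain ⟨A, hA⟩ := hs a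
  -- `H ^ (m + 1)` so that non-vanishing is equivalent to lying in the basic open
  refine ⟨A * H, H ^ (m + 1), ?_, fun z hz => ?_⟩
  · rw [map_pow, ← evTop_eval₂, hH]
    exact pow_ne_zero _ ((ev_ne_zero_iff x ⊤ _ h).2 hxh)
  · rw [map_pow, pow_ne_zero_iff (Nat.succ_ne_zero m)] at hz
    have hne : z.evTop h ≠ 0 := by rw [← hH, evTop_eval₂]; exact hz
    have hzh : z.pt ∈ X.basicOpen h := (ev_ne_zero_iff z ⊤ _ h).1 hne
    refine ⟨hhU hzh, ?_⟩
    rw [map_mul, map_pow, ← evTop_eval₂, ← evTop_eval₂, hA, hH, ← hev z hzh, pow_succ]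
    field_simp

end Groth.Agent.AnLib
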