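import Groth.Agent.AnLib.RootBranch
import Groth.Agent.AnLib.CharDense
import Mathlib.FieldTheory.PrimitiveElement
import Mathlib.RingTheory.Localization.FractionRing
import Mathlib.RingTheory.Localization.Integral
import Mathlib.FieldTheory.Minpoly.IsIntegrallyClosed
import Mathlib.RingTheory.Polynomial.GaussLemma

/-! A function on the ℂ-points of an integral affine variety which is holomorphic along curves and
bounded by a regular function is rational. -/

open Filter Topology Polynomial
open scoped nonZeroDivisors IntermediateField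

noncomputable section

namespace Groth.Agent.AnLib

section Setup

variable {A : Type} [CommRing A] [IsDomain A]

theorem exists_mul_eq_algebraMap {P : Type} [CommRing P] [IsDomain P] [Algebra P A]
    [Algebra.IsIntegral P A] {y : A} (hy : y ≠ 0) : ∃ (N : P) (y' : A), N ≠ 0 ∧ y * y' = algebraMap P A N := by
  have hi : IsIntegral P y := Algebra.IsIntegral.isIntegral y
  refine ⟨-(minpoly P y).coeff 0, aeval y (minpoly P y).divX, neg_ne_zero.2 fun h0 => hy ?_, ?_⟩
  · have hass := (Polynomial.irreducible_X (R := P)).associated_of_dvd (minpoly.irreducible hi) (X_dvd_iff.2 h0)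
    obtain ⟨v, hv⟩ := hass
    have := congrArg (Polynomial.aeval y) hv
    rw [map_mul, minpoly.aeval, Polynomial.aeval_X] at this
    exact (IsUnit.mul_left_eq_zero (v.isUnit.map (Polynomial.aeval y))).1 this
  · have := congrArg (Polynomial.aeval y) (X_mul_divX_add (minpoly P y))
    rw [map_add, map_mul, minpoly.aeval, aeval_X, aeval_C] at this
    rw [map_neg]
    linear_combination this

attribute [local instance] FractionRing.liftAlgebra

/-- Primitive element data of a finite extension of domains of characteristic zero. -/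
theorem exists_primitive_data {P : Type} [CommRing P] [IsDomain P] [IsIntegrallyClosed P] [CharZero P]
    [Algebra P A] [Module.Finite P A] (hinj : Function.Injective (algebraMap P A)) {k : ℕ} (a : Fin k → A) :
    ∃ (θ : A) (c : P) (R : Fin k → P[X]) (D : P) (u v : P[X]), c ≠ 0 ∧ D ≠ 0 ∧
      (∀ i, algebraMap P A c * a i = aeval θ (R i)) ∧
      u * minpoly P θ + v * (minpoly P θ).derivative = Polynomial.C D := by
  classical
  have : FaithfulSMul P A := (faithfulSMul_iff_algebraMap_injective P A).2 hinj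
  have : Module.IsTorsionFree P A := Module.isTorsionFree_iff_algebraMap_injective.2 hinj
  let K := FractionRing P
  let L := FractionRing A
  have hspan : ∀ x : L, ∃ (N : P) (z : A), N ≠ 0 ∧ algebraMap P L N * x = algebraMap A L z := by
    intro x
    obtain ⟨b, y, hy, rfl⟩ := IsFractionRing.div_surjective A x
    have hy0 : y ≠ 0 := nonZeroDivisors.ne_zero hy
    obtain ⟨N, y', hN, hy'⟩ := exists_mul_eq_algebraMap (P := P) hy0
    refine ⟨N, b * y', hN, ?_⟩
    have : algebraMap A L y ≠ 0 := (map_ne_zero_iff _ (IsFractionRing.injective A L)).2 hy0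
    rw [IsScalarTower.algebraMap_apply P A L, ← hy', map_mul, map_mul]
    rw [mul_comm (algebraMap A L y), mul_assoc, mul_div_cancel₀ _ this, mul_comm]
  have hK0 : ∀ N : P, N ≠ 0 → algebraMap P K N ≠ 0 := fun N hN =>
    (map_ne_zero_iff _ (IsFractionRing.injective P K)).2 hN
  have hKL : ∀ N : P, algebraMap K L (algebraMap P K N) = algebraMap P L N := fun N =>
    (IsScalarTower.algebraMap_apply P K L N).symm
  have : FiniteDimensional K L := by
    obtain ⟨S, hS⟩ := Module.Finite.fg_top (R := P) (M := A)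
    refine ⟨⟨S.image (algebraMap A L), top_le_iff.1 ?_⟩⟩
    rw [Finset.coe_image]
    rintro x -
    obtain ⟨N, z, hN, hx⟩ := hspan x
    have hz : algebraMap A L z ∈ Submodule.span K (algebraMap A L '' (S : Set A)) := by
      clear hx
      have : z ∈ Submodule.span P (S : Set A) := by rw [hS]; trivial
      induction this using Submodule.span_induction with
      | mem w hw => exact Submodule.subset_span ⟨w, hw, rfl⟩
      | zero => simp
      | add p q _ _ hp hq => rw [map_add]; exact add_mem hp hq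
      | smul r w _ hw =>
        rw [Algebra.smul_def, map_mul, ← IsScalarTower.algebraMap_apply P A L, ← hKL, ← Algebra.smul_def]
        exact Submodule.smul_mem _ _ hw
    rw [← Submodule.smul_mem_iff (Submodule.span K _) (hK0 N hN), Algebra.smul_def, hKL, hx]
    exact hz
  have : CharZero K := charZero_of_injective_algebraMap (IsFractionRing.injective P K)
  obtain ⟨α, hα⟩ := Field.exists_primitive_element K L
  obtain ⟨N, θ, hN, hθ⟩ := hspan α
  have hθtop : K⟮algebraMap A L θ⟯ = ⊤ := by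
    rw [eq_top_iff, ← hα, IntermediateField.adjoin_simple_le_iff]
    have : α = (algebraMap K L (algebraMap P K N))⁻¹ * algebraMap A L θ := by
      rw [← hθ, hKL, inv_mul_cancel_left₀]
      rw [← hKL]; exact (_root_.map_ne_zero _).2 (hK0 N hN)
    rw [this, ← map_inv₀]
    exact mul_mem (IntermediateField.algebraMap_mem _ _) (IntermediateField.mem_adjoin_simple_self _ _)
  have hadj : Algebra.adjoin K {algebraMap A L θ} = (⊤ : Subalgebra K L) :=
    Algebra.adjoin_eq_top_of_primitive_element (Algebra.IsAlgebraic.isAlgebraic _) hθtop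
  have hR : ∀ i, ∃ (c : P) (R : P[X]), c ≠ 0 ∧ algebraMap P A c * a i = aeval θ R := by
    intro i
    have : algebraMap A L (a i) ∈ Algebra.adjoin K {algebraMap A L θ} := by rw [hadj]; trivial
    rw [Algebra.adjoin_singleton_eq_range_aeval] at this
    obtain ⟨Q, hQ⟩ := this
    obtain ⟨c, hc, hcR⟩ := IsLocalization.integerNormalization_spec P⁰ Q
    refine ⟨c, IsLocalization.integerNormalization P⁰ Q, nonZeroDivisors.ne_zero hc, IsFractionRing.injective A L ?_⟩
    have h2 : aeval (algebraMap A L θ) ((IsLocalization.integerNormalization P⁰ Q).map (algebraMap P K)) = c • algebraMap A L (a i) := by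
      rw [hcR, Algebra.smul_def, map_mul, Polynomial.algebraMap_apply, aeval_C, hKL, ← hQ, Algebra.smul_def]; rfl
    rw [aeval_map_algebraMap, aeval_algebraMap_apply] at h2
    rw [h2, Algebra.smul_def, map_mul, IsScalarTower.algebraMap_apply P A L]
  choose c R hc hR using hR
  have hint : IsIntegral P θ := IsIntegral.of_finite P θ
  have hmin : minpoly K (algebraMap A L θ) = (minpoly P θ).map (algebraMap P K) :=
    minpoly.isIntegrallyClosed_eq_field_fractions K L hint
  obtain ⟨u, v, huv⟩ := (minpoly.irreducible (IsIntegral.of_finite K (algebraMap A L θ))).separable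
  obtain ⟨cu, hcu, hu⟩ := IsLocalization.integerNormalization_spec P⁰ u
  obtain ⟨cv, hcv, hv⟩ := IsLocalization.integerNormalization_spec P⁰ v
  refine ⟨θ, ∏ i, c i, fun i => Polynomial.C (∏ j ∈ Finset.univ.erase i, c j) * R i, cu * cv,
    Polynomial.C cv * IsLocalization.integerNormalization P⁰ u, Polynomial.C cu * IsLocalization.integerNormalization P⁰ v,
    Finset.prod_ne_zero_iff.2 fun i _ => hc i, mul_ne_zero (nonZeroDivisors.ne_zero hcu) (nonZeroDivisors.ne_zero hcv),
    fun i => ?_, ?_⟩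
  · rw [map_mul, aeval_C, ← hR, ← mul_assoc, ← map_mul, Finset.prod_erase_mul _ _ (Finset.mem_univ i)]
  · refine map_injective (algebraMap P K) (IsFractionRing.injective P K) ?_
    simp only [Polynomial.map_add, Polynomial.map_mul, map_C, hu, hv, ← derivative_map, ← hmin]
    simp only [Algebra.smul_def, Polynomial.algebraMap_apply, map_mul]
    linear_combination (Polynomial.C (algebraMap P K cu) * Polynomial.C (algebraMap P K cv)) * huv

end Setup

theorem geomSum₂_eval {n : ℕ} (c : ℕ → ℂ) (x y : ℂ) :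
    (∑ m ∈ Finset.range n, c m * ∑ i ∈ Finset.range m, x ^ i * y ^ (m - 1 - i)) * (x - y) =
      (∑ m ∈ Finset.range n, c m * x ^ m) - ∑ m ∈ Finset.range n, c m * y ^ m := by
  rw [Finset.sum_mul, ← Finset.sum_sub_distrib]
  refine Finset.sum_congr rfl fun m _ => ?_
  rw [mul_assoc, geom_sum₂_mul, mul_sub]

variable {A : Type} [CommRing A] [IsDomain A] [Algebra ℂ A]

/-- A function on the points of an integral affine variety, holomorphic along curves and bounded
by a regular function, is rational. -/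
theorem exists_rational {k : ℕ} (a : Fin k → A)
    (ha : Function.Surjective (MvPolynomial.aeval a : MvPolynomial (Fin k) ℂ → A)) (W : (Fin k → ℂ) → ℂ)
    (hW : ∀ (γ : ℂ → Fin k → ℂ) (s₀ : ℂ), DifferentiableAt ℂ γ s₀ →
      (∀ᶠ s in 𝓝 s₀, γ s ∈ Set.range fun (ψ : A →ₐ[ℂ] ℂ) i => ψ (a i)) →
      DifferentiableAt ℂ (fun s => W (γ s)) s₀)
    (u₀ : A) (hb : ∀ ψ : A →ₐ[ℂ] ℂ, ‖W fun i => ψ (a i)‖ ≤ 1 + ‖ψ u₀‖) :
    ∃ f h : A, f ≠ 0 ∧ ∀ ψ : A →ₐ[ℂ] ℂ, ψ f ≠ 0 → ψ h = ψ f * W fun i => ψ (a i) := by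
  classical
  have : Algebra.FiniteType ℂ A := Algebra.FiniteType.of_surjective (MvPolynomial.aeval a) ha
  obtain ⟨d, g, hginj, hgfin, -, -⟩ := DimLib.exists_normalization (k := ℂ) (A := A)
  algebraize [g.toRingHom]
  let P := MvPolynomial (Fin d) ℂ
  have : Module.Finite P A := hgfin
  have : IsScalarTower ℂ P A := IsScalarTower.of_algebraMap_eq fun x => (g.commutes x).symm
  have hinj : Function.Injective (algebraMap P A) := hginj
  have : Module.IsTorsionFree P A := Module.isTorsionFree_iff_algebraMap_injective.2 hinj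
  have hint : ∀ b : A, IsIntegral P b := fun b => IsIntegral.of_finite P b
  obtain ⟨θ, c, R, D, uu, vv, hc, hD, hR, hbez⟩ := exists_primitive_data hinj a
  let F := minpoly P θ
  have hF : F.Monic := minpoly.monic (hint θ)
  let n := F.natDegree
  let Δ := D * c
  let ev : (Fin d → ℂ) → P →+* ℂ := fun t => MvPolynomial.eval t
  let Ft : (Fin d → ℂ) → ℂ[X] := fun t => F.map (ev t)
  have hFt : ∀ t, (Ft t).Monic := fun t => hF.map _
  let roots : (Fin d → ℂ) → Finset ℂ := fun t => (Ft t).roots.toFinset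
  have hroots : ∀ t y, y ∈ roots t ↔ (Ft t).IsRoot y := fun t y => by
    rw [Multiset.mem_toFinset, mem_roots (hFt t).ne_zero]
  let z : (Fin d → ℂ) → ℂ → (Fin k → ℂ) := fun t y i => ((R i).map (ev t)).eval y * (ev t c)⁻¹
  -- the base point of a character
  let base : (A →ₐ[ℂ] ℂ) → (Fin d → ℂ) := fun ψ i => ψ (g (MvPolynomial.X i))
  have hbase : ∀ (ψ : A →ₐ[ℂ] ℂ), ψ.toRingHom.comp (algebraMap P A) = ev (base ψ) := fun ψ =>
    MvPolynomial.ringHom_ext (fun x => by
      show ψ (g (MvPolynomial.C x)) = _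
      rw [← MvPolynomial.algebraMap_eq, g.commutes, ψ.commutes]; simp [ev]) (fun i => by
      show ψ (g (MvPolynomial.X i)) = _
      simp [ev, base])
  have hψ : ∀ (ψ : A →ₐ[ℂ] ℂ) (Q : P[X]), ψ (aeval θ Q) = (Q.map (ev (base ψ))).eval (ψ θ) := fun ψ Q => by
    rw [aeval_def, ← hbase ψ, eval_map]
    exact hom_eval₂ Q (algebraMap P A) ψ.toRingHom θ
  have hψroot : ∀ ψ : A →ₐ[ℂ] ℂ, (Ft (base ψ)).IsRoot (ψ θ) := fun ψ => by
    show ((minpoly P θ).map _).eval _ = 0
    rw [← hψ, minpoly.aeval, map_zero]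
  have hz : ∀ ψ : A →ₐ[ℂ] ℂ, ev (base ψ) c ≠ 0 → (fun i => ψ (a i)) = z (base ψ) (ψ θ) := by
    intro ψ hc'
    funext i
    have := congrArg ψ (hR i)
    rw [map_mul, hψ] at this
    have h2 : ψ (algebraMap P A c) = ev (base ψ) c := congrArg (fun f : P →+* ℂ => f c) (hbase ψ)
    rw [h2] at this
    show _ = ((R i).map (ev (base ψ))).eval (ψ θ) * _
    rw [← this, mul_comm (ev (base ψ) c), mul_assoc, mul_inv_cancel₀ hc', mul_one]
  have hlift : ∀ t y, (Ft t).IsRoot y → ∃ ψ : A →ₐ[ℂ] ℂ, base ψ = t ∧ ψ θ = y := by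
    intro t y hy
    have hy' : F.eval₂ (ev t) y = 0 := by rwa [IsRoot, eval_map] at hy
    let χ : AdjoinRoot F →+* ℂ := AdjoinRoot.lift (ev t) y hy'
    have hθ0 : F.eval₂ (algebraMap P A) θ = 0 := by rw [← aeval_def]; exact minpoly.aeval P θ
    let ιB : AdjoinRoot F →+* A := AdjoinRoot.lift (algebraMap P A) θ hθ0
    have hιinj : Function.Injective ιB := by
      rw [injective_iff_map_eq_zero]
      intro x hx
      obtain ⟨Q, rfl⟩ := AdjoinRoot.mk_surjective x
      rw [AdjoinRoot.lift_mk, ← aeval_def, minpoly.isIntegrallyClosed_dvd_iff (hint θ)] at hx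
      rwa [AdjoinRoot.mk_eq_zero]
    letI : Algebra (AdjoinRoot F) A := ιB.toAlgebra
    have : Algebra.IsIntegral (AdjoinRoot F) A := ⟨fun b => by
      refine RingHom.IsIntegral.tower_top (AdjoinRoot.of F) ιB ?_ b
      have : ιB.comp (AdjoinRoot.of F) = algebraMap P A := RingHom.ext fun x => AdjoinRoot.lift_of hθ0
      rw [this]
      exact fun b => hint b⟩
    obtain ⟨ψ, hψ'⟩ := exists_extend (A := A) hιinj χ
      fun x => ⟨AdjoinRoot.of F (MvPolynomial.C x), (AdjoinRoot.lift_of hy').trans (MvPolynomial.eval_C x)⟩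
    have hψP : ∀ x : P, ψ (algebraMap P A x) = ev t x := fun x => by
      have := congrArg (fun f : AdjoinRoot F →+* ℂ => f (AdjoinRoot.of F x)) hψ'
      simpa [RingHom.algebraMap_toAlgebra, ιB, χ] using this
    refine ⟨{ ψ with commutes' := fun x => ?_ }, ?_, ?_⟩
    · show ψ (algebraMap ℂ A x) = x
      rw [IsScalarTower.algebraMap_apply ℂ P A, hψP]; simp [P, ev]
    · funext i
      show ψ (algebraMap P A (MvPolynomial.X i)) = t i
      rw [hψP]; exact MvPolynomial.eval_X (f := t) i
    · have := congrArg (fun f : AdjoinRoot F →+* ℂ => f (AdjoinRoot.root F)) hψ'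
      show ψ θ = y
      simpa [RingHom.algebraMap_toAlgebra, ιB, χ] using this
  have hsep : ∀ t, ev t D ≠ 0 → ∀ y, (Ft t).IsRoot y → (Ft t).derivative.eval y ≠ 0 := by
    intro t ht y hy h
    apply ht
    have := congrArg (fun q : P[X] => (q.map (ev t)).eval y) hbez
    simp only [Polynomial.map_add, Polynomial.map_mul, eval_add, eval_mul, map_C, eval_C] at this
    rw [← this, ← derivative_map]
    show _ * (Ft t).eval y + _ * (Ft t).derivative.eval y = 0
    rw [hy.eq_zero, h]; simp
  -- power sums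
  let T : ℕ → (Fin d → ℂ) → ℂ := fun j t => ∑ y ∈ roots t, W (z t y) * y ^ j
  obtain ⟨CF, NF, hCF, hbF⟩ : ∃ (C : ℝ) (N : ℕ), 0 ≤ C ∧ ∀ t y, (Ft t).IsRoot y → ‖y‖ ≤ C * (1 + ‖t‖) ^ N := by
    choose C N hC h using fun j => exists_bound_mvPolynomial (F.coeff j)
    refine ⟨1 + ∑ j ∈ Finset.range n, C j, ∑ j ∈ Finset.range n, N j,
      add_nonneg zero_le_one (Finset.sum_nonneg fun j _ => hC j), fun t y hy => ?_⟩
    refine (norm_le_of_isRoot (hFt t) hy).trans ?_
    have h1 : (1 : ℝ) ≤ 1 + ‖t‖ := le_add_of_nonneg_right (norm_nonneg _)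
    have hdeg : (Ft t).natDegree = n := hF.natDegree_map _
    rw [hdeg, add_mul, one_mul, Finset.sum_mul]
    refine add_le_add (one_le_pow₀ h1) (Finset.sum_le_sum fun j hj => ?_)
    rw [coeff_map]
    exact (h j t).trans (mul_le_mul_of_nonneg_left (pow_le_pow_right₀ h1
      (Finset.single_le_sum (f := N) (fun _ _ => Nat.zero_le _) hj)) (hC j))
  obtain ⟨CW, NW, hCW, hbW⟩ : ∃ (C : ℝ) (N : ℕ), 0 ≤ C ∧ ∀ ψ : A →ₐ[ℂ] ℂ, ‖W fun i => ψ (a i)‖ ≤ C * (1 + ‖base ψ‖) ^ N := by
    let G := minpoly P u₀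
    choose C N hC h using fun j => exists_bound_mvPolynomial (G.coeff j)
    refine ⟨2 + ∑ j ∈ Finset.range G.natDegree, C j, ∑ j ∈ Finset.range G.natDegree, N j,
      add_nonneg zero_le_two (Finset.sum_nonneg fun j _ => hC j), fun ψ => ?_⟩
    refine (hb ψ).trans ?_
    have h1 : (1 : ℝ) ≤ 1 + ‖base ψ‖ := le_add_of_nonneg_right (norm_nonneg _)
    have hG : G.Monic := minpoly.monic (hint u₀)
    have hroot : (G.map (ev (base ψ))).IsRoot (ψ u₀) := by
      show _ = (0 : ℂ)
      rw [← hbase ψ, eval_map]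
      exact (hom_eval₂ G (algebraMap P A) ψ.toRingHom u₀).symm.trans (by rw [← aeval_def, minpoly.aeval, map_zero])
    have h2 := norm_le_of_isRoot (hG.map _) hroot
    rw [hG.natDegree_map] at h2
    have h3 : (1 : ℝ) ≤ (1 + ‖base ψ‖) ^ ∑ j ∈ Finset.range G.natDegree, N j := one_le_pow₀ h1
    have h4 : ∑ j ∈ Finset.range G.natDegree, ‖(G.map (ev (base ψ))).coeff j‖ ≤
        (∑ j ∈ Finset.range G.natDegree, C j) * (1 + ‖base ψ‖) ^ ∑ j ∈ Finset.range G.natDegree, N j := by
      rw [Finset.sum_mul]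
      refine Finset.sum_le_sum fun j hj => ?_
      rw [coeff_map]
      exact (h j _).trans (mul_le_mul_of_nonneg_left (pow_le_pow_right₀ h1
        (Finset.single_le_sum (f := N) (fun _ _ => Nat.zero_le _) hj)) (hC j))
    rw [add_mul]
    linarith
  have hzmem : ∀ t, ev t c ≠ 0 → ∀ y, (Ft t).IsRoot y →
      ∃ ψ : A →ₐ[ℂ] ℂ, base ψ = t ∧ (fun i => ψ (a i)) = z t y := by
    intro t ht y hy
    obtain ⟨ψ, rfl, rfl⟩ := hlift t y hy
    exact ⟨ψ, rfl, hz ψ ht⟩
  have hTbound : ∀ j t, ev t Δ ≠ 0 → ‖T j t‖ ≤ (n * CW * CF ^ j) * (1 + ‖t‖) ^ (NW + NF * j) := by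
    intro j t ht
    rw [map_mul, mul_ne_zero_iff] at ht
    refine (norm_sum_le _ _).trans ((Finset.sum_le_card_nsmul _ _ (CW * (1 + ‖t‖) ^ NW * (CF * (1 + ‖t‖) ^ NF) ^ j) fun y hy => ?_).trans ?_)
    · rw [norm_mul, norm_pow]
      obtain ⟨ψ, hψt, hψz⟩ := hzmem t ht.2 y ((hroots t y).1 hy)
      refine mul_le_mul ?_ (pow_le_pow_left₀ (norm_nonneg _) (hbF t y ((hroots t y).1 hy)) j) (by positivity) (by positivity)
      rw [← hψz, ← hψt]; exact hbW ψ
    · rw [nsmul_eq_mul, mul_pow, ← pow_mul, pow_add]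
      have hcard : ((roots t).card : ℝ) ≤ n := by
        exact_mod_cast (Multiset.toFinset_card_le _).trans ((card_roots' _).trans natDegree_map_le)
      calc ((roots t).card : ℝ) * (CW * (1 + ‖t‖) ^ NW * (CF ^ j * (1 + ‖t‖) ^ (NF * j)))
          ≤ n * (CW * (1 + ‖t‖) ^ NW * (CF ^ j * (1 + ‖t‖) ^ (NF * j))) :=
            mul_le_mul_of_nonneg_right hcard (by positivity)
        _ = _ := by ring
  have hTdiff : ∀ j (t v : Fin d → ℂ) (s₀ : ℂ), MvPolynomial.eval (t + s₀ • v) Δ ≠ 0 →
      DifferentiableAt ℂ (fun s : ℂ => T j (t + s • v)) s₀ := by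
    intro j t v s₀ ht
    rw [map_mul, mul_ne_zero_iff] at ht
    choose G hG using fun m => exists_line_polynomial (F.coeff m) t v
    have hsum : ∀ s : ℂ, Ft (t + s • v) = ∑ m ∈ Finset.range (n + 1), Polynomial.C ((G m).eval s) * X ^ m := by
      intro s
      rw [(Ft (t + s • v)).as_sum_range_C_mul_X_pow, show (Ft (t + s • v)).natDegree = n from hF.natDegree_map _]
      exact Finset.sum_congr rfl fun m _ => by rw [hG, coeff_map]
    obtain ⟨S, y, hy, hev⟩ := exists_root_branches G n (fun s => by rw [hG, hF.coeff_natDegree, map_one]) s₀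
      (by rw [← hsum]; exact hsep _ ht.1)
    choose GR hGR using fun (i : Fin k) (m : ℕ) => exists_line_polynomial ((R i).coeff m) t v
    obtain ⟨Gc, hGc⟩ := exists_line_polynomial c t v
    have hevc : ∀ᶠ s in 𝓝 s₀, ev (t + s • v) c ≠ 0 := by
      have := Gc.continuous.continuousAt.eventually_ne (x := s₀) (y := (0 : ℂ)) (by rw [hGc]; exact ht.2)
      filter_upwards [this] with s hs
      rw [← hGc]; exact hs
    have hzd : ∀ r ∈ S, DifferentiableAt ℂ (fun s : ℂ => z (t + s • v) (y r s)) s₀ := by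
      intro r hr
      refine differentiableAt_pi.2 fun i => ?_
      have e : (fun s : ℂ => z (t + s • v) (y r s) i) = fun s =>
          (∑ m ∈ Finset.range ((R i).natDegree + 1), (GR i m).eval s * y r s ^ m) * (Gc.eval s)⁻¹ := by
        funext s
        show ((R i).map (ev (t + s • v))).eval (y r s) * (ev (t + s • v) c)⁻¹ = _
        rw [eval_map, eval₂_eq_sum_range, hGc]
        simp only [hGR]
        rfl
      rw [e]
      refine DifferentiableAt.mul (DifferentiableAt.fun_sum fun m _ => (GR i m).differentiableAt.mul ((hy r hr).pow m))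
        (Gc.differentiableAt.inv ?_)
      rw [hGc]; exact ht.2
    have hWd : ∀ r ∈ S, DifferentiableAt ℂ (fun s : ℂ => W (z (t + s • v) (y r s)) * y r s ^ j) s₀ := by
      intro r hr
      refine (hW (fun s : ℂ => z (t + s • v) (y r s)) s₀ (hzd r hr) ?_).mul ((hy r hr).pow j)
      filter_upwards [hev, hevc] with s hs hsc
      have hmem : y r s ∈ roots (t + s • v) := by
        show _ ∈ (Ft (t + s • v)).roots.toFinset
        rw [hsum, hs.2]
        exact Finset.mem_image_of_mem (fun r => y r s) hr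
      obtain ⟨ψ, -, hψz⟩ := hzmem _ hsc _ ((hroots _ _).1 hmem)
      exact ⟨ψ, hψz⟩
    refine (DifferentiableAt.fun_sum hWd).congr_of_eventuallyEq ?_
    filter_upwards [hev] with s hs
    show ∑ x ∈ (Ft (t + s • v)).roots.toFinset, _ = _
    rw [hsum, hs.2, Finset.sum_image hs.1]
  have hTpoly : ∀ j, ∃ p : P, ∀ t, ev t Δ ≠ 0 → T j t = ev t p := fun j =>
    exists_mvPolynomial_of_lines Δ (T j) (hTdiff j) (by positivity) (hTbound j)
  choose p hp using hTpoly
  let H : P[X] := ∑ m ∈ Finset.range (n + 1), ∑ i ∈ Finset.range m, Polynomial.C (F.coeff m * p (m - 1 - i)) * X ^ i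
  refine ⟨algebraMap P A Δ * aeval θ (derivative F), algebraMap P A Δ * aeval θ H, ?_, fun ψ hf => ?_⟩
  · refine mul_ne_zero ((map_ne_zero_iff _ hinj).2 (mul_ne_zero hD hc)) fun h => hD ?_
    have := congrArg (aeval θ) hbez
    rw [map_add, map_mul, map_mul, minpoly.aeval, h, aeval_C] at this
    simpa using ((map_eq_zero_iff _ hinj).1 (by simpa using this.symm))
  · have hΔ : ψ (algebraMap P A Δ) = ev (base ψ) Δ := congrArg (fun f : P →+* ℂ => f Δ) (hbase ψ)
    rw [map_mul ψ, hΔ] at hf
    rw [map_mul ψ (algebraMap P A Δ), map_mul ψ (algebraMap P A Δ), hΔ, hψ, hψ, mul_assoc]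
    have ht : ev (base ψ) Δ ≠ 0 := left_ne_zero_of_mul hf
    have ht' := ht
    rw [map_mul, mul_ne_zero_iff] at ht'
    congr 1
    set t := base ψ
    set y₀ := ψ θ
    rw [hz ψ ht'.2]
    let Qf : ℂ → ℂ → ℂ := fun x y => ∑ m ∈ Finset.range (n + 1), ev t (F.coeff m) * ∑ i ∈ Finset.range m, x ^ i * y ^ (m - 1 - i)
    have hH : (H.map (ev t)).eval y₀ = ∑ y ∈ roots t, W (z t y) * Qf y₀ y := by
      simp only [H, Qf, Polynomial.map_sum, Polynomial.map_mul, map_C, Polynomial.map_pow, map_X, eval_finsetSum, eval_mul, eval_C,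
        eval_pow, eval_X, map_mul, ← hp _ t ht, T, Finset.mul_sum, Finset.sum_mul]
      conv_rhs => rw [Finset.sum_comm]
      refine Finset.sum_congr rfl fun m _ => ?_
      conv_rhs => rw [Finset.sum_comm]
      refine Finset.sum_congr rfl fun i _ => Finset.sum_congr rfl fun y _ => ?_
      ring
    have heval : ∀ x, (Ft t).eval x = ∑ m ∈ Finset.range (n + 1), ev t (F.coeff m) * x ^ m := fun x => by
      show (F.map (ev t)).eval x = _
      rw [eval_map, eval₂_eq_sum_range]
    rw [hH, Finset.sum_eq_single y₀]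
    · rw [mul_comm (W _)]
      congr 1
      show Qf y₀ y₀ = _
      rw [← derivative_map, derivative_eval, sum_over_range' _ (fun _ => by simp) (n + 1) (Nat.lt_succ_of_le natDegree_map_le)]
      refine Finset.sum_congr rfl fun m _ => ?_
      rw [geom_sum₂_self, coeff_map]
      ring
    · intro y hy hne
      have h0 : Qf y₀ y * (y₀ - y) = 0 := by
        rw [geomSum₂_eval, ← heval, ← heval, (hψroot ψ).eq_zero, ((hroots t y).1 hy).eq_zero, sub_zero]
      rw [(mul_eq_zero.1 h0).resolve_right (sub_ne_zero.2 hne.symm), mul_zero]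
    · intro h
      exact absurd ((hroots t y₀).2 (hψroot ψ)) h

end Groth.Agent.AnLib
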