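import Groth.Agent.AnLib.Poly
import Mathlib.Analysis.Calculus.ImplicitFunction.ProdDomain
import Mathlib.Analysis.Calculus.ContDiff.RCLike
import Mathlib.Analysis.Calculus.Deriv.Polynomial
import Mathlib.Analysis.Calculus.ContDiff.Polynomial
import Mathlib.Analysis.Complex.Polynomial.Basic
import Mathlib.FieldTheory.Separable

/-! The simple roots of a polynomial family along a line vary holomorphically. -/

open Filter Topology Polynomial

noncomputable section

namespace Groth.Agent.AnLib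

theorem exists_root_branch {n : ℕ} (G : ℕ → ℂ[X]) (s₀ y₀ : ℂ)
    (h0 : ∑ j ∈ Finset.range n, (G j).eval s₀ * y₀ ^ j = 0)
    (h1 : (∑ j ∈ Finset.range n, C ((G j).eval s₀) * X ^ j).derivative.eval y₀ ≠ 0) :
    ∃ y : ℂ → ℂ, DifferentiableAt ℂ y s₀ ∧ y s₀ = y₀ ∧
      ∀ᶠ s in 𝓝 s₀, ∑ j ∈ Finset.range n, (G j).eval s * y s ^ j = 0 := by
  let f : ℂ × ℂ → ℂ := fun u => ∑ j ∈ Finset.range n, (G j).eval u.1 * u.2 ^ j
  have hf : ContDiff ℂ 1 f := by
    refine ContDiff.sum fun j _ => ?_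
    refine ContDiff.mul ?_ (contDiff_snd.pow j)
    simpa [Function.comp_def] using ((G j).contDiff_aeval (𝕜 := ℂ) 1).comp (contDiff_fst (𝕜 := ℂ) (E := ℂ) (F := ℂ))
  have dfu : HasStrictFDerivAt f (fderiv ℂ f (s₀, y₀)) (s₀, y₀) := hf.contDiffAt.hasStrictFDerivAt one_ne_zero
  set q : ℂ[X] := ∑ j ∈ Finset.range n, C ((G j).eval s₀) * X ^ j with hq
  have hder : ((fderiv ℂ f (s₀, y₀)).comp (ContinuousLinearMap.inr ℂ ℂ ℂ)) =
      ContinuousLinearMap.toSpanSingleton ℂ (q.derivative.eval y₀) := by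
    refine HasFDerivAt.unique (f := fun y => f (s₀, y)) (x := y₀) ?_ ?_
    · exact dfu.hasFDerivAt.comp y₀ (hasFDerivAt_prodMk_right s₀ y₀)
    · have e : (fun y => f (s₀, y)) = fun y => q.eval y := by
        funext y; simp [f, q, eval_finsetSum]
      rw [e]
      exact (q.hasDerivAt y₀).hasFDerivAt
  have hinv : ((fderiv ℂ f (s₀, y₀)).comp (ContinuousLinearMap.inr ℂ ℂ ℂ)).IsInvertible := by
    refine ⟨ContinuousLinearEquiv.unitsEquivAut ℂ (Units.mk0 _ h1), ?_⟩
    rw [hder]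
    ext
    simp
  refine ⟨dfu.implicitFunctionOfProdDomain hinv, (dfu.hasStrictFDerivAt_implicitFunctionOfProdDomain hinv).hasFDerivAt.differentiableAt,
    (dfu.eventually_apply_eq_iff_implicitFunctionOfProdDomain hinv).self_of_nhds.mp rfl, ?_⟩
  filter_upwards [dfu.eventually_apply_implicitFunctionOfProdDomain hinv] with s hs
  exact hs.trans h0

/-- All roots, when simple, split into holomorphic branches. -/
theorem exists_root_branches (G : ℕ → ℂ[X]) (n : ℕ) (hn : ∀ s : ℂ, (G n).eval s = 1)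
    (s₀ : ℂ) (hsep : ∀ y, (∑ j ∈ Finset.range (n + 1), C ((G j).eval s₀) * X ^ j).IsRoot y →
      (∑ j ∈ Finset.range (n + 1), C ((G j).eval s₀) * X ^ j).derivative.eval y ≠ 0) :
    ∃ (R : Finset ℂ) (y : ℂ → ℂ → ℂ), (∀ r ∈ R, DifferentiableAt ℂ (y r) s₀) ∧
      ∀ᶠ s in 𝓝 s₀, Set.InjOn (fun r => y r s) R ∧
        (∑ j ∈ Finset.range (n + 1), C ((G j).eval s) * X ^ j).roots.toFinset = R.image (fun r => y r s) := by
  classical
  let F : ℂ → ℂ[X] := fun s => ∑ j ∈ Finset.range (n + 1), C ((G j).eval s) * X ^ j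
  have hdeg : ∀ s, (F s).natDegree ≤ n := fun s =>
    natDegree_sum_le_of_forall_le _ _ fun m hm => (natDegree_C_mul_X_pow_le _ _).trans (Nat.lt_succ_iff.1 (Finset.mem_range.1 hm))
  have hcoeff : ∀ s, (F s).coeff n = 1 := fun s => by
    simp only [F, finsetSum_coeff, coeff_C_mul_X_pow, Finset.sum_ite_eq, Finset.mem_range]
    rw [if_pos (Nat.lt_succ_self n), hn]
  have hne : ∀ s, F s ≠ 0 := fun s h => by simpa [h] using hcoeff s
  have hnd : ∀ s, (F s).natDegree = n := fun s =>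
    le_antisymm (hdeg s) (le_natDegree_of_ne_zero (by rw [hcoeff]; exact one_ne_zero))
  let R := (F s₀).roots.toFinset
  have hnodup : (F s₀).roots.Nodup := by
    refine nodup_roots ?_
    rw [separable_def, Polynomial.isCoprime_iff_aeval_ne_zero_of_isAlgClosed (k := ℂ) (K := ℂ)]
    intro y
    rcases em ((F s₀).IsRoot y) with h | h
    · exact Or.inr (by rw [coe_aeval_eq_eval]; exact hsep y h)
    · exact Or.inl (by simpa [IsRoot] using h)
  have hcard : R.card = n := by
    rw [Multiset.toFinset_card_of_nodup hnodup, ← (IsAlgClosed.splits (F s₀)).natDegree_eq_card_roots, hnd]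
  have hb : ∀ r ∈ R, ∃ y : ℂ → ℂ, DifferentiableAt ℂ y s₀ ∧ y s₀ = r ∧
      ∀ᶠ s in 𝓝 s₀, ∑ j ∈ Finset.range (n + 1), (G j).eval s * y s ^ j = 0 := by
    intro r hr
    rw [Multiset.mem_toFinset, mem_roots (hne s₀)] at hr
    refine exists_root_branch G s₀ r ?_ (hsep r hr)
    simpa [F, eval_finsetSum] using hr.eq_zero
  choose! y hyd hy0 hyr using hb
  refine ⟨R, y, hyd, ?_⟩
  have hinj : ∀ᶠ s in 𝓝 s₀, ∀ r ∈ R, ∀ r' ∈ R, r ≠ r' → y r s ≠ y r' s := by
    refine (eventually_all_finset R).2 fun r hr => (eventually_all_finset R).2 fun r' hr' => ?_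
    rcases eq_or_ne r r' with rfl | h
    · exact Eventually.of_forall fun _ h => absurd rfl h
    · filter_upwards [((hyd r hr).continuousAt.ne_iff_eventually_ne (hyd r' hr').continuousAt).1
        (by rwa [hy0 r hr, hy0 r' hr'])] with s hs _ using hs
  filter_upwards [hinj, (eventually_all_finset R).2 hyr] with s hs hroot
  have hio : Set.InjOn (fun r => y r s) R := fun r hr r' hr' h => by
    by_contra hne'
    exact hs r hr r' hr' hne' h
  refine ⟨hio, (Finset.eq_of_subset_of_card_le (fun z hz => ?_) ?_).symm⟩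
  · obtain ⟨r, hr, rfl⟩ := Finset.mem_image.1 hz
    rw [Multiset.mem_toFinset, mem_roots (hne s), IsRoot]
    simpa [F, eval_finsetSum] using hroot r hr
  · rw [Finset.card_image_of_injOn hio, hcard]
    exact (Multiset.toFinset_card_le _).trans ((card_roots' _).trans (hdeg s))

end Groth.Agent.AnLib
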