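import Groth.Agent.AnLib.Basic
import Mathlib.AlgebraicGeometry.Morphisms.Immersion
import Mathlib.RingTheory.MvPolynomial.Basic
import Mathlib.Topology.Algebra.MvPolynomial

/-! The complex topology on ℂ-points: behaviour under immersions, affine presentations. -/

open AlgebraicGeometry CategoryTheory TopologicalSpace Opposite Topology

noncomputable section

namespace Groth.Agent.AnLib

open An

variable {X Y : Scheme.{0}} [X.Over SC] [Y.Over SC]

theorem ev_sub (x : Pts X) (U : X.Opens) (h : x.pt ∈ U) (f g : Γ(X, U)) :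
    x.ev U h (f - g) = x.ev U h f - x.ev U h g := map_sub (evalHom x U h) f g

theorem ev_congr {x : Pts X} {U V : X.Opens} (e : U = V) (hU : x.pt ∈ U) (hV : x.pt ∈ V) (f : Γ(X, V)) :
    x.ev U hU (X.presheaf.map (eqToHom e).op f) = x.ev V hV f := by
  subst e; simp

theorem map_injective (g : X ⟶ Y) [g.IsOver SC] [Mono g] : Function.Injective (Pts.map g) := fun x y h =>
  Subtype.ext ((cancel_mono g).1 (congrArg Subtype.val h))

theorem exists_map_eq_of_isOpenImmersion (g : X ⟶ Y) [g.IsOver SC] [IsOpenImmersion g] (y : Pts Y)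
    (hy : y.pt ∈ Set.range g) : ∃ x : Pts X, Pts.map g x = y := by
  have hr : Set.range y.1 ⊆ Set.range g := by
    rintro _ ⟨p, rfl⟩
    rw [eq_cpt p]; exact hy
  refine ⟨⟨IsOpenImmersion.lift g y.1 hr, ?_⟩, Subtype.ext (IsOpenImmersion.lift_fac g y.1 hr)⟩
  rw [← comp_over g SC, ← Category.assoc, IsOpenImmersion.lift_fac]
  exact y.2

theorem range_map_of_isOpenImmersion (g : X ⟶ Y) [g.IsOver SC] [IsOpenImmersion g] :
    Set.range (Pts.map g) = Pts.pt ⁻¹' Set.range g :=
  Set.ext fun y => ⟨by rintro ⟨x, rfl⟩; exact ⟨x.pt, (Pts.pt_map g x).symm⟩, exists_map_eq_of_isOpenImmersion g y⟩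

theorem isOpenEmbedding_map (g : X ⟶ Y) [g.IsOver SC] [IsOpenImmersion g] : IsOpenEmbedding (Pts.map g) := by
  have : IsInducing (Pts.map g) := by
    refine ⟨le_antisymm (Continuous.le_induced (Pts.continuous_map g)) ?_⟩
    refine le_generateFrom ?_
    rintro _ ⟨U, f, V, hV, rfl⟩
    refine isOpen_induced_iff.2 ⟨Pts.basicSet (g ''ᵁ U) ((g.appIso U).inv f) V, Pts.isOpen_basicSet _ _ hV, ?_⟩
    have e : g ⁻¹ᵁ (g ''ᵁ U) = U := g.preimage_image_eq U
    have hf : g.app (g ''ᵁ U) ((g.appIso U).inv f) = X.presheaf.map (eqToHom e).op f := by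
      rw [← CommRingCat.comp_apply, Scheme.Hom.appIso_inv_app]
    rw [Pts.preimage_basicSet, hf]
    ext x
    refine ⟨fun ⟨h, hv⟩ => ⟨e.le h, ?_⟩, fun ⟨h, hv⟩ => ⟨e.ge h, ?_⟩⟩
    · rwa [ev_congr e h (e.le h)] at hv
    · rwa [ev_congr e _ h]
  refine ⟨⟨this, map_injective g⟩, ?_⟩
  rw [range_map_of_isOpenImmersion]
  exact (g.isOpenEmbedding.isOpen_range).preimage Pts.continuous_pt

/-- For a closed immersion the complex topology of the source is induced. -/
theorem isInducing_map_of_isClosedImmersion (g : X ⟶ Y) [g.IsOver SC] [IsClosedImmersion g] :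
    IsInducing (Pts.map g) := by
  refine ⟨le_antisymm (Continuous.le_induced (Pts.continuous_map g)) ?_⟩
  refine le_generateFrom ?_
  rintro _ ⟨U, f, V, hV, rfl⟩
  rw [@isOpen_iff_forall_mem_open _ (TopologicalSpace.induced (Pts.map g) inferInstance)]
  rintro x ⟨hx, hxV⟩
  obtain ⟨O, hO, hOU⟩ := g.isClosedEmbedding.isInducing.isOpen_iff.1 U.2
  have hxO : g x.pt ∈ O := show x.pt ∈ g ⁻¹' O by rw [hOU]; exact hx
  obtain ⟨W, hW, hxW, hWO⟩ := exists_isAffineOpen_mem_and_subset (U := (⟨O, hO⟩ : Y.Opens)) hxO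
  have hle : g ⁻¹ᵁ W ≤ U := fun z hz => show z ∈ U.carrier by rw [← hOU]; exact hWO hz
  obtain ⟨t, ht⟩ := g.app_surjective W hW (X.presheaf.map (homOfLE hle).op f)
  refine ⟨Pts.map g ⁻¹' Pts.basicSet W t V, ?_, isOpen_induced_iff.2 ⟨_, Pts.isOpen_basicSet W t hV, rfl⟩, ?_⟩
  · rw [Pts.preimage_basicSet, ht]
    rintro z ⟨hz, hzV⟩
    exact ⟨hle hz, by rwa [ev_res z hle hz] at hzV⟩
  · rw [Pts.preimage_basicSet, ht]
    exact ⟨hxW, by rwa [ev_res x hle hxW]⟩

theorem range_map_of_isClosedImmersion (g : X ⟶ Y) [g.IsOver SC] [IsClosedImmersion g]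
    [LocallyOfFiniteType (X ↘ SC)] [LocallyOfFiniteType (Y ↘ SC)] :
    Set.range (Pts.map g) = Pts.pt ⁻¹' Set.range g := by
  refine Set.ext fun y => ⟨by rintro ⟨x, rfl⟩; exact ⟨x.pt, (Pts.pt_map g x).symm⟩, ?_⟩
  rintro ⟨z, hz⟩
  have hzc : IsClosed ({z} : Set X) := by
    have h := (isClosed_pt y).preimage g.continuous
    rwa [← hz, ← Set.image_singleton, g.isClosedEmbedding.injective.preimage_image] at h
  obtain ⟨x, hx⟩ := exists_pt_eq hzc
  exact ⟨x, pt_injective (by rw [Pts.pt_map, hx, hz])⟩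

theorem isClosedEmbedding_map (g : X ⟶ Y) [g.IsOver SC] [IsClosedImmersion g]
    [LocallyOfFiniteType (X ↘ SC)] [LocallyOfFiniteType (Y ↘ SC)] : IsClosedEmbedding (Pts.map g) := by
  refine ⟨⟨isInducing_map_of_isClosedImmersion g, map_injective g⟩, ?_⟩
  rw [range_map_of_isClosedImmersion]
  exact g.isClosedEmbedding.isClosed_range.preimage Pts.continuous_pt

section Affine
variable [IsAffine X] {n : ℕ} (s : Fin n → Γ(X, ⊤))

/-- The coordinate map of a family of global functions. -/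
def coords (x : Pts X) : Fin n → ℂ := fun i => x.evTop (s i)

theorem continuous_coords : Continuous (coords s) := by
  refine continuous_pi fun i => continuous_def.2 fun V hV => ?_
  have : (fun x : Pts X => x.evTop (s i)) ⁻¹' V = Pts.basicSet ⊤ (s i) V :=
    Set.ext fun x => ⟨fun h => ⟨trivial, h⟩, fun ⟨_, h⟩ => h⟩
  change IsOpen ((fun x : Pts X => x.evTop (s i)) ⁻¹' V)
  rw [this]; exact Pts.isOpen_basicSet _ _ hV

theorem evTop_eval₂ (x : Pts X) (F : MvPolynomial (Fin n) ℂ) :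
    x.evTop (MvPolynomial.eval₂Hom (strHom X) s F) = MvPolynomial.eval (coords s x) F := by
  have h : (evalHom x ⊤ (Opens.mem_top _)).comp (MvPolynomial.eval₂Hom (strHom X) s) = MvPolynomial.eval (coords s x) :=
    MvPolynomial.ringHom_ext (fun c => by simpa [ev_eq] using evTop_strHom x c) (fun i => by simp; rfl)
  exact congrArg (fun φ : MvPolynomial (Fin n) ℂ →+* ℂ => φ F) h

variable (hs : Function.Surjective (MvPolynomial.eval₂Hom (strHom X) s))
include hs

theorem coords_injective : Function.Injective (coords s) := fun x y h =>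
  ext_of_evTop fun f => by obtain ⟨F, rfl⟩ := hs f; rw [evTop_eval₂, evTop_eval₂, h]

theorem range_coords : Set.range (coords s) =
    {z | ∀ F ∈ RingHom.ker (MvPolynomial.eval₂Hom (strHom X) s), MvPolynomial.eval z F = 0} := by
  ext z
  constructor
  · rintro ⟨x, rfl⟩ F hF
    rw [← evTop_eval₂, RingHom.mem_ker.1 hF]
    exact map_zero (evalHom x ⊤ (Opens.mem_top _))
  · intro hz
    let φ : Γ(X, ⊤) →+* ℂ := RingHom.liftOfSurjective _ hs ⟨MvPolynomial.eval z, fun F hF => hz F hF⟩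
    have hφ : ∀ F, φ (MvPolynomial.eval₂Hom (strHom X) s F) = MvPolynomial.eval z F :=
      RingHom.liftOfRightInverse_comp_apply _ _ _ _
    obtain ⟨x, hx⟩ := exists_evTop_eq φ (fun c => by simpa using hφ (MvPolynomial.C c))
    exact ⟨x, funext fun i => by show x.evTop (s i) = z i; rw [hx]; simpa using hφ (MvPolynomial.X i)⟩

theorem isClosedEmbedding_coords : IsClosedEmbedding (coords s) := by
  refine ⟨⟨⟨le_antisymm (continuous_coords s).le_induced ?_⟩, coords_injective s hs⟩, ?_⟩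
  · refine le_generateFrom ?_
    rintro _ ⟨U, f, V, hV, rfl⟩
    rw [@isOpen_iff_forall_mem_open _ (TopologicalSpace.induced (coords s) inferInstance)]
    rintro x ⟨hx, hxV⟩
    obtain ⟨h, hhU, hxh⟩ : ∃ h : Γ(X, ⊤), X.basicOpen h ≤ U ∧ x.pt ∈ X.basicOpen h := by
      obtain ⟨_, ⟨_, ⟨h, rfl⟩, rfl⟩, hxh, hle⟩ :=
        (isBasis_basicOpen X).exists_subset_of_mem_open (show x.pt ∈ (U : Set X) from hx) U.2
      exact ⟨h, hle, hxh⟩
    have := (isAffineOpen_top X).isLocalization_basicOpen h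
    obtain ⟨a, ⟨_, m, rfl⟩, ha⟩ := IsLocalization.exists_mk'_eq (Submonoid.powers h) (X.presheaf.map (homOfLE hhU).op f)
    have hev : ∀ (z : Pts X) (hz : z.pt ∈ X.basicOpen h), z.ev U (hhU hz) f * z.evTop h ^ m = z.evTop a := by
      intro z hz
      have h2 := congrArg (evalHom z _ hz) (IsLocalization.mk'_spec Γ(X, X.basicOpen h) a (⟨h ^ m, pow_mem (Submonoid.mem_powers h) m⟩ : Submonoid.powers h))
      rw [ha, map_mul] at h2
      simp only [map_pow, RingHom.algebraMap_toAlgebra] at h2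
      have e : ∀ b : Γ(X, ⊤), evalHom z _ hz ((X.presheaf.map (homOfLE (X.basicOpen_le h)).op).hom b) = z.evTop b :=
        fun b => ev_res z (X.basicOpen_le h) hz b
      have e2 : evalHom z _ hz (X.presheaf.map (homOfLE hhU).op f) = z.ev U (hhU hz) f := ev_res z hhU hz f
      rw [e2] at h2
      exact (congrArg (fun w => z.ev U (hhU hz) f * w ^ m) (e h).symm).trans (h2.trans (e a))
    obtain ⟨H, hH⟩ := hs h
    obtain ⟨A, hA⟩ := hs a
    let S : Set (Fin n → ℂ) := {w | MvPolynomial.eval w H ≠ 0} ∩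
      (fun w => MvPolynomial.eval w A / MvPolynomial.eval w H ^ m) ⁻¹' V
    have hcont : ContinuousOn (fun w : Fin n → ℂ => MvPolynomial.eval w A / MvPolynomial.eval w H ^ m) {w | MvPolynomial.eval w H ≠ 0} :=
      (MvPolynomial.continuous_eval A).continuousOn.div ((MvPolynomial.continuous_eval H).pow m).continuousOn
        fun w hw => pow_ne_zero _ hw
    have hS : IsOpen S :=
      hcont.isOpen_inter_preimage (isOpen_ne_fun (MvPolynomial.continuous_eval H) continuous_const) hV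
    refine ⟨coords s ⁻¹' S, ?_, isOpen_induced_iff.2 ⟨S, hS, rfl⟩, ?_⟩
    · rintro z ⟨hz1, hz2⟩
      have hne : z.evTop h ≠ 0 := by rw [← hH, evTop_eval₂]; exact hz1
      have hzh : z.pt ∈ X.basicOpen h := (ev_ne_zero_iff z ⊤ _ h).1 hne
      refine ⟨hhU hzh, ?_⟩
      have h3 := hev z hzh
      rw [← eq_div_iff (pow_ne_zero m hne)] at h3
      rw [h3, ← hA, ← hH, evTop_eval₂, evTop_eval₂]
      exact hz2
    · have hne : x.evTop h ≠ 0 := (ev_ne_zero_iff x ⊤ _ h).2 hxh
      refine ⟨by show MvPolynomial.eval (coords s x) H ≠ 0; rw [← evTop_eval₂, hH]; exact hne, ?_⟩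
      have h3 := hev x hxh
      rw [← eq_div_iff (pow_ne_zero m hne)] at h3
      show _ / _ ∈ V
      rw [← evTop_eval₂, ← evTop_eval₂, hA, hH, ← h3]
      exact hxV
  · rw [range_coords s hs]
    simp only [Set.ofPred_forall]
    exact isClosed_iInter fun F => isClosed_iInter fun _ => isClosed_eq (MvPolynomial.continuous_eval F) continuous_const

end Affine

end Groth.Agent.AnLib
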